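import Groth.Agent.BorelConj.Ext
import Groth.Agent.TorScheme.TorQuot
set_option autoImplicit false
set_option linter.style.haveILetI false
set_option linter.unusedSectionVars false
set_option backward.isDefEq.respectTransparency false
set_option backward.isDefEq.respectTransparency.types false
set_option maxHeartbeats 4000000
set_option synthInstance.maxHeartbeats 400000
universe u
open CategoryTheory Limits MonoidalCategory CartesianMonoidalCategory MonObj AlgebraicGeometry LieS
open scoped CategoryTheory.Obj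
noncomputable section
namespace Groth.Agent.BorelConj
open Groth.Agent.DynPar Groth.Agent.HomDiag Groth.Agent.MTBridge
attribute [local instance] Functor.grpObjObj

variable {S : Scheme.{u}} {G B : Over S} [GrpObj G] [GrpObj B]

/-- A subgroup with Borel geometric fibres is a Borel subgroup. -/
theorem isBorelSub_of_geom (hG : Red.IsReductive G) (i : B ⟶ G) [IsMonHom i] [IsImmersion i.left] [Smooth B.hom]
    [QuasiCompact B.hom]
    (h : ∀ s : S, Red.IsBorelOver (AlgebraicClosure (S.residueField s)) ((Over.pullback (Red.geomPt s)).map i)) :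
    RedSub.IsBorelSub i := by
  refine ⟨⟨⟨inferInstance, inferInstance⟩, inferInstance, inferInstance,
    MTImage.isConnected_fibre_of_geom fun s => (h s).2.2.2.1, fun s => ?_⟩, h⟩
  let K := AlgebraicClosure (S.residueField s)
  let F := Over.pullback (Red.geomPt s)
  have hred : Red.IsReductiveOver K (F.obj G) := hG.2.2 s
  haveI : IsAffine (F.obj G).left := hred.1
  haveI : Smooth (F.obj G).hom := hred.2.1
  haveI : ConnectedSpace (F.obj G).left := hred.2.2.1
  obtain ⟨T, B₁, _, _, t, b₁, -, -, -, hT, -⟩ := Chev.Borel.exists_maxTorus (F.obj G)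
  haveI := hT.1
  obtain ⟨g, t', ht'⟩ := exists_torus_conj (F.map i) (h s) (t ≫ b₁) hT.2.2.1
  haveI := (h s).1
  haveI := (h s).2.1
  haveI : Mono (F.map i) := Over.mono_of_mono_left _
  haveI : IsMonHom (AGF.conjBy g (t ≫ b₁)) := Chev.Borel.isMonHom_conjBy g _
  refine ⟨T, inferInstance, t', MTSplit.isMonHom_of_comp_mono t' (F.map i) _ ht', ?_⟩
  rw [show t' ≫ (Over.pullback (Red.geomPt s)).map i = _ from ht']
  exact RedCartan.isMaximalTorus_conjBy g _ (Chev.Borel.isMaximalTorus_of_isMaxTorus _ hT)

/-- Borel subgroups are stable under base change. -/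
theorem isBorelSub_bc (hG : Red.IsReductive G) (i : B ⟶ G) (hB : RedSub.IsBorelSub i) {U : Scheme.{u}} (f : U ⟶ S) :
    RedSub.IsBorelSub ((Over.pullback f).map i) := by
  haveI := hB.1.1.1; haveI := hB.1.1.2; haveI := hB.1.2.1; haveI := hB.1.2.2.1
  haveI : IsMonHom ((Over.pullback f).map i) := isMonHom_map' f i
  haveI : IsImmersion ((Over.pullback f).map i).left :=
    MorphismProperty.overPullbackMap (P := @IsImmersion) f i inferInstance
  haveI : Smooth (Red.bc f B).hom := inferInstanceAs (Smooth (pullback.snd B.hom f))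
  haveI : QuasiCompact (Red.bc f B).hom := inferInstanceAs (QuasiCompact (pullback.snd B.hom f))
  exact isBorelSub_of_geom (B := Red.bc f B) (DynPar.isReductive_bc f hG) _ fun s =>
    isBorelOver_map_map i f (Red.geomPt s) rfl (isBorelOver_pt hG i _ (hB.2 _))

/-- Borel subgroups are carried by isomorphisms. -/
theorem isBorelSub_iso {G' : Over S} [GrpObj G'] (hG' : Red.IsReductive G') (i : B ⟶ G) (hB : RedSub.IsBorelSub i)
    (e : G ≅ G') [IsMonHom e.hom] : RedSub.IsBorelSub (i ≫ e.hom) := by
  haveI := hB.1.1.1; haveI := hB.1.1.2; haveI := hB.1.2.1; haveI := hB.1.2.2.1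
  haveI : IsIso e.hom.left := inferInstanceAs (IsIso ((Over.forget S).map e.hom))
  haveI : IsImmersion (i ≫ e.hom).left := inferInstanceAs (IsImmersion (i.left ≫ e.hom.left))
  haveI : IsMonHom e.inv := inferInstance
  refine isBorelSub_of_geom hG' _ fun s => ?_
  let F := Over.pullback (Red.geomPt s)
  haveI : IsMonHom (F.mapIso (Iso.refl B)).hom := by
    show IsMonHom (F.map (𝟙 B))
    exact isMonHom_map' _ _
  haveI : IsMonHom (F.mapIso e.symm).hom := isMonHom_map' _ e.inv
  refine isBorelOver_ambient (F.mapIso (Iso.refl B)) (F.mapIso e.symm) _ _ ?_ (hB.2 s)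
  show F.map (𝟙 B) ≫ F.map i = F.map (i ≫ e.hom) ≫ F.map e.inv
  rw [← F.map_comp, ← F.map_comp, Category.id_comp, Category.assoc, Iso.hom_inv_id, Category.comp_id]

/-- A pullback of a Borel subgroup is a Borel subgroup. -/
theorem isBorelSub_pullMap (hG : Red.IsReductive G) {X P : Over S} {H : Over X.left} [GrpObj H]
    (j : H ⟶ Red.bc X.hom G) (hj : RedSub.IsBorelSub j) (x : P ⟶ X) :
    RedSub.IsBorelSub (MTDescent.pullMap j x) := by
  haveI := hG.1; haveI := hG.2.1
  obtain ⟨e, he, hem⟩ := TorScheme.exists_pullIso (G := G) x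
  haveI := hem
  rw [TorScheme.pullMap_eq x j, ← he]
  exact isBorelSub_iso (DynPar.isReductive_bc _ hG) _
    (isBorelSub_bc (DynPar.isReductive_bc _ hG) j hj x.left) e

/-- A conjugate of a Borel subgroup is a Borel subgroup. -/
theorem isBorelSub_conjBy (hG : Red.IsReductive G) (i : B ⟶ G) (hB : RedSub.IsBorelSub i) (g : 𝟙_ (Over S) ⟶ G) :
    RedSub.IsBorelSub (AGF.conjBy g i) := by
  haveI : IsMonHom (RootBase.cjIso g).hom :=
    HomDiag.isMonHom_of_mul _ fun X x y => by
      show (x * y) ≫ RootBase.cj g (𝟙 _) = x ≫ RootBase.cj g (𝟙 _) * y ≫ RootBase.cj g (𝟙 _)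
      simp only [RootBase.comp_cj, Category.comp_id, RootBase.cj_mul]
  have e : AGF.conjBy g i = i ≫ (RootBase.cjIso g).hom := by
    show _ = i ≫ RootBase.cj g (𝟙 _)
    rw [RootBase.comp_cj, Category.comp_id]
    rfl
  rw [e]
  exact isBorelSub_iso hG i hB _

end Groth.Agent.BorelConj
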