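import Groth.Agent.BorelConj.Main
import Groth.Agent.RootBase.Borel

/-!
# Weights of root homomorphisms in dynamical parabolic subgroups
-/

set_option autoImplicit false
set_option linter.style.haveILetI false
set_option linter.unusedSectionVars false
set_option backward.isDefEq.respectTransparency false
set_option maxHeartbeats 1000000
set_option synthInstance.maxHeartbeats 400000

universe u

open CategoryTheory Limits MonoidalCategory CartesianMonoidalCategory MonObj AlgebraicGeometry LieS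
open scoped CategoryTheory.Obj

noncomputable section

namespace Groth.Agent.BorelConj

open Groth.Agent.HomDiag Groth.Agent.DynPar Groth.Agent.MTBridge Groth.Agent.RootBase

variable {R : Type u} [CommRing R] [Nontrivial R] {G : Over (Spec (CommRingCat.of R))} [GrpObj G] [IsAffine G.left]
  {M : Type} [AddCommGroup M] {c : Red.DS (Spec (CommRingCat.of R)) M ⟶ G} [IsMonHom c] {a : M}
  {u : Red.Ga (Spec (CommRingCat.of R)) ⟶ G}

/-- The orbit of a value of a root homomorphism. -/
theorem orb_rootHom (hu : Red.IsRootHom c (Red.chi _ a) u) {B : Type u} [CommRing B]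
    {f : Spec (CommRingCat.of B) ⟶ Spec (CommRingCat.of R)} (mu : M →+ ℤ)
    (x : pt B f ⟶ Red.Ga (Spec (CommRingCat.of R))) :
    orb f (Red.DSmap _ mu ≫ c) (x ≫ u) = gp _ (AddMonoidAlgebra.single (mu a) (gv x)) ≫ u := by
  rw [orb_apply, ← Category.assoc, ← Category.assoc (qc ℤ f), rootHom_conj_gp hu, chv_DSmap, chv_xu, qc, gv_qm]
  congr 2
  show AddMonoidAlgebra.single (mu a) 1 * AddMonoidAlgebra.single 0 _ = _
  rw [AddMonoidAlgebra.single_mul_single, add_zero, _root_.one_mul]

/-- The orbit of a value of a root homomorphism under the whole torus. -/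
theorem orb_rootHom' (hu : Red.IsRootHom c (Red.chi _ a) u) {B : Type u} [CommRing B]
    {f : Spec (CommRingCat.of B) ⟶ Spec (CommRingCat.of R)}
    (x : pt B f ⟶ Red.Ga (Spec (CommRingCat.of R))) :
    orb f c (x ≫ u) = gp _ (AddMonoidAlgebra.single a (gv x)) ≫ u := by
  rw [orb_apply, ← Category.assoc (qc M f), rootHom_conj_gp hu, chv_xu, qc, gv_qm]
  congr 2
  show AddMonoidAlgebra.single a 1 * AddMonoidAlgebra.single 0 _ = _
  rw [AddMonoidAlgebra.single_mul_single, add_zero, _root_.one_mul]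

theorem qc_rootHom {B : Type u} [CommRing B] {f : Spec (CommRingCat.of B) ⟶ Spec (CommRingCat.of R)} (Λ : Type)
    [AddCommMonoid Λ] (x : pt B f ⟶ Red.Ga (Spec (CommRingCat.of R))) :
    qc Λ f ≫ x = gp _ (AddMonoidAlgebra.single (0 : Λ) (gv x)) :=
  gv_inj (by rw [gv_gp, qc, gv_qm]; rfl)

/-- A regular functional does not vanish on a root. -/
theorem mu_ne_zero_of_regular (hu : Red.IsRootHom c (Red.chi _ a) u) (ha : a ≠ 0) (mu : M →+ ℤ)
    (hreg : ∀ (B : Type u) [CommRing B] (f : Spec (CommRingCat.of B) ⟶ Spec (CommRingCat.of R)) (g : pt B f ⟶ G),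
      g ∈ ZSub f (Red.DSmap _ mu ≫ c) → g ∈ ZSub f c) : mu a ≠ 0 := by
  intro h0
  haveI := hu.2.1
  haveI : Mono u := Over.mono_of_mono_left u
  let x : pt R (𝟙 (Spec (CommRingCat.of R))) ⟶ Red.Ga (Spec (CommRingCat.of R)) := gp _ 1
  have h1 : x ≫ u ∈ ZSub (𝟙 _) (Red.DSmap _ mu ≫ c) := by
    rw [mem_ZSub, orb_rootHom hu, ← Category.assoc, qc_rootHom, h0]
  have h2 := hreg R _ _ h1
  rw [mem_ZSub, orb_rootHom' hu, ← Category.assoc, qc_rootHom, cancel_mono] at h2
  have h3 := congrArg gv h2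
  rw [gv_gp, gv_gp, gv_gp] at h3
  exact ha ((AddMonoidAlgebra.single_left_inj one_ne_zero).1 h3)

/-- A root subgroup meeting a dynamical parabolic subgroup has non-negative weight. -/
theorem mu_nonneg_of_mem_PSub (hu : Red.IsRootHom c (Red.chi _ a) u) (mu : M →+ ℤ) {B : Type u} [CommRing B]
    {f : Spec (CommRingCat.of B) ⟶ Spec (CommRingCat.of R)} (x : pt B f ⟶ Red.Ga (Spec (CommRingCat.of R)))
    (hx : gv x ≠ 0) (h : x ≫ u ∈ PSub f (Red.DSmap _ mu ≫ c)) : 0 ≤ mu a := by
  haveI := hu.2.1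
  haveI : Mono u := Over.mono_of_mono_left u
  obtain ⟨g, hg⟩ := (mem_PSub f _).1 h
  rw [orb_rootHom hu] at hg
  obtain ⟨z, hz⟩ := (exists_fac_iff_ker_le u.left g.left).2 (by
    rw [← ker_qn_comp g, hg, Over.comp_left]
    exact (exists_fac_iff_ker_le u.left _).1 ⟨_, rfl⟩)
  let z' : pt (AddMonoidAlgebra B (NN ℤ)) (fL f (NN ℤ)) ⟶ Red.Ga (Spec (CommRingCat.of R)) :=
    Over.homMk z (by rw [← Over.w u, ← Category.assoc, hz, Over.w g])
  have hz' : z' ≫ u = g := Over.OverMorphism.ext hz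
  rw [← hz', ← Category.assoc, cancel_mono] at hg
  have h3 := congrArg gv hg
  rw [gv_gp, qn, qd, gv_qm] at h3
  by_contra hneg
  have h4 := congrArg (fun p : AddMonoidAlgebra B ℤ => p.coeff (mu a)) h3
  simp only [AddMonoidAlgebra.coeff_single, Finsupp.single_eq_same] at h4
  refine hx (h4.symm.trans ?_)
  exact Finsupp.mapDomain_notin_range _ _ fun ⟨q, hq⟩ => hneg (hq ▸ q.2)

end Groth.Agent.BorelConj
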