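import Groth.Agent.BorelConj.Field
import Groth.Agent.BorelConj.Weight

/-!
# Borel subgroups at a geometric point
-/

set_option autoImplicit false
set_option linter.style.haveILetI false
set_option backward.isDefEq.respectTransparency false
set_option backward.isDefEq.respectTransparency.types false
set_option maxHeartbeats 2000000
set_option synthInstance.maxHeartbeats 400000

universe u

open CategoryTheory Limits MonoidalCategory CartesianMonoidalCategory MonObj AlgebraicGeometry LieS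
open scoped CategoryTheory.Obj

noncomputable section

namespace Groth.Agent.BorelConj

open Groth.Agent.DynPar Groth.Agent.HomDiag Groth.Agent.MTBridge

variable {k : Type u} [Field k] [IsAlgClosed k]

/-- **A Borel subgroup through a split maximal torus is the dynamical parabolic subgroup of a regular functional.** -/
theorem exists_cochar_regular {M : Type} [AddCommGroup M] [Module.Free ℤ M] [Module.Finite ℤ M] {G B' : Over (Spec (CommRingCat.of k))} [GrpObj G] [GrpObj B'] (hred : Red.IsReductiveOver k G)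
    (iK : Red.DS (Spec (CommRingCat.of k)) M ⟶ G) (hiK : AGF.IsMaxTorus iK)
    (iB' : B' ⟶ G) (hB' : Red.IsBorelOver k iB') (t' : Red.DS (Spec (CommRingCat.of k)) M ⟶ B')
    (ht' : t' ≫ iB' = iK) :
    ∃ (mu : M →+ ℤ) (_ : Regular iK mu) (P : Over (Spec (CommRingCat.of k))) (_ : GrpObj P) (p : P ⟶ G) (e : P ≅ B'),
      IsP (Red.DSmap _ mu ≫ iK) p ∧ e.hom ≫ iB' = p := by
  haveI := hred.1; haveI := hred.2.1; haveI := hred.2.2.1
  haveI : IsAffineHom G.hom := isAffineHom_of_isAffine _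
  haveI := hiK.1; haveI := hiK.2.1; haveI := hB'.1; haveI := hB'.2.1
  have hself := exists_isCentralizerOf_self hred iK hiK
  obtain ⟨mu, hmu⟩ := exists_regular (G := G) iK
  obtain ⟨B₀, _, b₀, hb₀⟩ := exists_isP (G := G) (Red.DSmap _ mu ≫ iK)
  have hBor₀ := isBorelOver_of_regular hred iK hiK hself mu hmu b₀ hb₀
  haveI := hb₀.1; haveI := hb₀.2.1
  obtain ⟨t₀, ht₀⟩ := hb₀.exists_le iK fun B _ f y => ZSub_le_PSub f _ ((mem_ZSub_iff_commute f _).2
    fun B'' _ f'' x h => by
      rw [← Category.assoc h, ← Category.assoc x, ← MonObj.mul_comp, ← MonObj.mul_comp, DS_comm])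
  obtain ⟨n, τ, σ, hτ, hσ⟩ := Groth.Agent.S3912.result k G _ _ _ iK b₀ iB' hiK hBor₀ hB' t₀ ht₀ t' ht'
  haveI : IsMonHom (AGF.conjBy n iK) := Chev.Borel.isMonHom_conjBy n iK
  haveI : IsMonHom τ.hom := MTSplit.isMonHom_of_comp_mono τ.hom iK _ hτ
  haveI : AddGroup.FG M := Module.Finite.iff_addGroup_fg.mp inferInstance
  obtain ⟨w, hw⟩ := Chev.CharQuot.exists_DSmap (k := k) τ.hom
  haveI : IsMonHom (AGF.conjBy n (𝟙 G)) := Chev.Borel.isMonHom_conjBy n (𝟙 G)
  haveI : IsIso (AGF.conjBy n (𝟙 G)) := ⟨AGF.conjBy n⁻¹ (𝟙 G), by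
      rw [Chev.Borel.comp_conjBy', Category.comp_id, Chev.Borel.conjBy_conjBy, inv_mul_cancel, AGF.conjBy,
        MonObj.comp_one, _root_.one_mul, inv_one, _root_.mul_one], by
      rw [Chev.Borel.comp_conjBy', Category.comp_id, Chev.Borel.conjBy_conjBy, mul_inv_cancel, AGF.conjBy,
        MonObj.comp_one, _root_.one_mul, inv_one, _root_.mul_one]⟩
  have htr := hb₀.transport (AGF.conjBy n (𝟙 G))
  have h1 : (Red.DSmap _ mu ≫ iK) ≫ AGF.conjBy n (𝟙 G) = Red.DSmap _ (mu.comp w) ≫ iK := by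
    rw [Chev.Borel.comp_conjBy', Category.comp_id, ← Chev.Borel.comp_conjBy' n (Red.DSmap _ mu) iK, ← hτ, hw,
      reassoc_of% (RootIntrinsic.DSmap_comp_apply (k := k) mu w)]
  rw [h1, Chev.Borel.comp_conjBy', Category.comp_id] at htr
  have hreg : Regular iK (mu.comp w) := by
    intro B _ f g hg
    rw [mem_ZSub_iff_commute] at hg ⊢
    intro B' _ f' x h
    let C : G ⟶ G := AGF.conjBy n (𝟙 G)
    haveI : Mono C := inferInstance
    haveI : IsMonHom C := Chev.Borel.isMonHom_conjBy n (𝟙 G)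
    have hc1 : (g ≫ inv C) ∈ ZSub f (Red.DSmap _ mu ≫ iK) := by
      rw [mem_ZSub_iff_commute]
      intro B'' _ f'' y v
      rw [← cancel_mono C, MonObj.mul_comp, MonObj.mul_comp]
      simp only [Category.assoc, IsIso.inv_hom_id, Category.comp_id]
      have h1' : Red.DSmap _ mu ≫ iK ≫ C = Red.DSmap _ (mu.comp w) ≫ iK := by
        rw [← Category.assoc]; exact h1
      rw [h1']
      exact hg B'' f'' y v
    have hc2 := (mem_ZSub_iff_commute f iK).1 (hmu _ _ _ hc1) B' f' x (h ≫ inv τ.hom)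
    have hc3 := congrArg (fun z => z ≫ C) hc2
    simp only [MonObj.mul_comp, Category.assoc, IsIso.inv_hom_id, Category.comp_id] at hc3
    have h2' : iK ≫ C = τ.hom ≫ iK := by
      show iK ≫ AGF.conjBy n (𝟙 G) = _
      rw [Chev.Borel.comp_conjBy', Category.comp_id, hτ]
    rw [h2', IsIso.inv_hom_id_assoc] at hc3
    exact hc3
  exact ⟨mu.comp w, hreg, B₀, inferInstance, AGF.conjBy n b₀, σ, htr, hσ⟩


end Groth.Agent.BorelConj
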