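import Groth.Agent.BorelConj.Main
import Groth.Agent.S8420
import Groth.Agent.S3962
import Groth.Agent.S3002

/-!
# Étale-local conjugacy of Borel subgroups
-/

set_option autoImplicit false
set_option linter.style.haveILetI false
set_option linter.unusedSectionVars false
set_option backward.isDefEq.respectTransparency false
set_option backward.isDefEq.respectTransparency.types false
set_option maxHeartbeats 4000000
set_option synthInstance.maxHeartbeats 400000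

universe u

open CategoryTheory Limits MonoidalCategory CartesianMonoidalCategory MonObj AlgebraicGeometry LieS
open scoped CategoryTheory.Obj
open Groth.Agent.SubGen (ratEquiv)

noncomputable section

namespace Groth.Agent.BorelConj

open Groth.Agent.DynPar Groth.Agent.HomDiag Groth.Agent.MTBridge

attribute [local instance] Functor.grpObjObj

variable {U : Scheme.{u}} {G B : Over U} [GrpObj G] [GrpObj B] {r : ℕ}

theorem isCartan_of_isMaximalTorus (hG : Red.IsReductive G) {T : Over U} [GrpObj T] (i : T ⟶ G)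
    (hi : Red.IsMaximalTorus i) : SGA3x.IsCartan i :=
  ⟨hi.1, hi.2.1, MTImage.smooth_torus hi.2.2.1, fun s => by
    haveI := hG.1; haveI := hG.2.1
    have h := Chev.MaxTorusBC.isMaximalTorus_bc i hi (Red.geomPt s)
    exact ⟨h.1, h.2.1, _, inferInstance, _, h,
      RedCartan.centralizer_self_of_isReductive (isReductive_bc (Red.geomPt s) hG) _ h⟩⟩

/-- A torus is conjugate into a Borel subgroup. -/
theorem exists_torus_conj {k : Type u} [Field k] [IsAlgClosed k] {H B₀ T : Over (Spec (CommRingCat.of k))} [GrpObj H]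
    [GrpObj B₀] [GrpObj T] [IsAffine H.left] [Smooth H.hom] [ConnectedSpace H.left] (iB : B₀ ⟶ H)
    (hB : Red.IsBorelOver k iB) (iT : T ⟶ H) [IsMonHom iT] (hT : Red.IsTorus T) :
    ∃ (g : 𝟙_ _ ⟶ H) (t : T ⟶ B₀), t ≫ iB = AGF.conjBy g iT := by
  haveI := Chev.isAffine_of_isTorus hT
  haveI := Chev.smooth_of_isTorus hT
  haveI := Chev.connectedSpace_of_isTorus hT
  haveI : Group.IsSolvable (Chev.RP T) := Group.isSolvable_of_comm (Chev.Borel.rp_torus_comm hT)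
  exact Chev.Borel.exists_conj_into_borel iB hB iT

/-- After an étale extension, a subgroup containing, at a point, a conjugate of any torus contains a conjugate of a
given maximal torus. -/
theorem exists_torus_le_of_conj (hG : Red.IsReductive G) (i : Red.DS U (Fin r → ℤ) ⟶ G) (hi : Red.IsMaximalTorus i)
    (iB : B ⟶ G) [IsMonHom iB] [IsClosedImmersion iB.left] [Smooth B.hom]
    {K : Type u} [Field K] [IsAlgClosed K] (φ : Spec (CommRingCat.of K) ⟶ U)
    (hK : ∀ (T : Over (Spec (CommRingCat.of K))) [GrpObj T] (iT : T ⟶ Red.bc φ G) [IsMonHom iT], Red.IsTorus T →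
      ∃ (g : 𝟙_ _ ⟶ Red.bc φ G) (t : T ⟶ Red.bc φ B), t ≫ (Over.pullback φ).map iB = AGF.conjBy g iT) :
    ∃ (W : Scheme.{u}) (f : W ⟶ U) (_ : Etale f) (i₁ : Red.DS W (Fin r → ℤ) ⟶ Red.bc f G) (t : _ ⟶ Red.bc f B),
      φ (IsLocalRing.closedPoint K) ∈ Set.range f ∧ Red.IsMaximalTorus i₁ ∧ t ≫ (Over.pullback f).map iB = i₁ := by
  haveI := hG.1; haveI := hG.2.1; haveI := hi.1; haveI := hi.2.1
  haveI : Mono iB := Over.mono_of_mono_left iB
  obtain ⟨M, m, hm, hMs, hMu⟩ := Groth.Agent.S8420.result U G (RedCartan.isConnected_fibre_of_isReductive hG)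
    B iB _ i (isCartan_of_isMaximalTorus hG i hi)
  haveI := hMs
  -- a geometric point of the transporter
  let F := Over.pullback φ
  have hred := isReductiveOver_pt hG φ
  haveI : IsAffine (F.obj G).left := hred.1
  haveI : Smooth (F.obj G).hom := hred.2.1
  haveI : ConnectedSpace (F.obj G).left := hred.2.2.1
  have hiK := RootBase.isMaximalTorus_bcHom' φ hG hi
  haveI := hiK.1
  obtain ⟨g, t, ht⟩ := hK _ (bcHom' φ i) hiK.2.2.1
  obtain ⟨g₀, rfl⟩ := (ratEquiv φ G).surjective g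
  obtain ⟨μ₀, hμ₀⟩ : ∃ μ₀ : Over.mk φ ⟶ M, μ₀ ≫ m = g₀ := by
    refine (hMu _ g₀).2 fun X x z => ?_
    let Y : Over (Spec (CommRingCat.of K)) := Over.mk x.left
    let e : (Over.map φ).obj Y ≅ X := Over.isoMk (Iso.refl _) (by
      show 𝟙 _ ≫ X.hom = x.left ≫ φ
      rw [Category.id_comp]; exact (Over.w x).symm)
    have hx : proj φ Y = e.hom ≫ x := Over.OverMorphism.ext (Category.id_comp _).symm
    haveI := isIso_ej φ (Fin r → ℤ)
    obtain ⟨h, hh⟩ := (mem_iso_iff e iB ((x ≫ g₀) * (z ≫ i) * (x ≫ g₀)⁻¹)).1 ((mem_bc_iff φ iB _).1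
      ⟨SubGen.Locus.baseEquiv φ _ Y (e.hom ≫ z) ≫ inv (ej φ (Fin r → ℤ)) ≫ t, by
        rw [Category.assoc, Category.assoc, show t ≫ (Over.pullback φ).map iB = _ from ht, AGF.conjBy]
        simp only [MonObj.comp_mul, GrpObj.comp_inv, map_mul, map_inv]
        rw [show inv (ej φ (Fin r → ℤ)) ≫ bcHom' φ i = F.map i by simp [bcHom', F], ← equiv_comp,
          ← Category.assoc _ (toUnit _) (ratEquiv φ G g₀), ← Category.assoc _ _ (ratEquiv φ G g₀)]
        rw [toUnit_unique (_ ≫ _ ≫ toUnit _) (toUnit Y), equiv_unit, hx]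
        simp only [Category.assoc]⟩)
    exact ⟨h, hh.symm⟩
  -- a section
  obtain ⟨W, f, w, hf, hfw, l, hl⟩ := SmSect.exists_etale_section M.hom (μ₀.left (IsLocalRing.closedPoint K))
  let x₀ : Over.mk f ⟶ M := Over.homMk l hl
  let g₁ : 𝟙_ (Over W) ⟶ Red.bc f G := ratEquiv f G (x₀ ≫ m)
  haveI : IsMonHom (RootBase.cjIso g₁).hom :=
    HomDiag.isMonHom_of_mul _ fun X x y => by
      show (x * y) ≫ RootBase.cj g₁ (𝟙 _) = x ≫ RootBase.cj g₁ (𝟙 _) * y ≫ RootBase.cj g₁ (𝟙 _)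
      simp only [RootBase.comp_cj, Category.comp_id, RootBase.cj_mul]
  haveI : IsMonHom (Iso.refl (Red.DS W (Fin r → ℤ))).hom := inferInstanceAs (IsMonHom (𝟙 _))
  have hif := RootBase.isMaximalTorus_bcHom' f hG hi
  have hi₁ := MTImage.isMaximalTorus_iso (Iso.refl _) (RootBase.cjIso g₁) (bcHom' f i)
    (bcHom' f i ≫ (RootBase.cjIso g₁).hom) (by simp) hif.2.2.1 hif
  obtain ⟨a, ha⟩ := (SubGen.Locus.baseEquiv f (Red.DS U (Fin r → ℤ)) _).surjective (ej f (Fin r → ℤ))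
  obtain ⟨h, hh⟩ := (hMu (Over.mk f) (x₀ ≫ m)).1 ⟨x₀, rfl⟩ _ (proj f (Red.DS W (Fin r → ℤ))) a
  refine ⟨W, f, hf, _, SubGen.Locus.baseEquiv f B _ h, ⟨w, hfw.trans ?_⟩, hi₁, ?_⟩
  · rw [← Scheme.Hom.comp_apply, Over.w μ₀]
    rfl
  · rw [← equiv_comp, ← hh, map_mul, map_mul, map_inv, ← equiv_unit, equiv_comp, ha]
    show _ = bcHom' f i ≫ RootBase.cj g₁ (𝟙 _)
    rw [RootBase.comp_cj, Category.comp_id]
    rfl

/-- After an étale extension, a Borel subgroup contains a conjugate of a given maximal torus. -/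
theorem exists_torus_le (hG : Red.IsReductive G) (i : Red.DS U (Fin r → ℤ) ⟶ G) (hi : Red.IsMaximalTorus i)
    (iB : B ⟶ G) [IsMonHom iB] [IsClosedImmersion iB.left] [Smooth B.hom]
    {K : Type u} [Field K] [IsAlgClosed K] (φ : Spec (CommRingCat.of K) ⟶ U)
    (hK : Red.IsBorelOver K ((Over.pullback φ).map iB)) :
    ∃ (W : Scheme.{u}) (f : W ⟶ U) (_ : Etale f) (i₁ : Red.DS W (Fin r → ℤ) ⟶ Red.bc f G) (t : _ ⟶ Red.bc f B),
      φ (IsLocalRing.closedPoint K) ∈ Set.range f ∧ Red.IsMaximalTorus i₁ ∧ t ≫ (Over.pullback f).map iB = i₁ := by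
  have hred := isReductiveOver_pt hG φ
  haveI : IsAffine (Red.bc φ G).left := hred.1
  haveI : Smooth (Red.bc φ G).hom := hred.2.1
  haveI : ConnectedSpace (Red.bc φ G).left := hred.2.2.1
  exact exists_torus_le_of_conj hG i hi iB φ fun T _ iT _ hT => exists_torus_conj _ hK iT hT

/-- **Borel subgroups are conjugate étale-locally.** -/
theorem exists_conj {S : Scheme.{u}} {G B B' : Over S} [GrpObj G] [GrpObj B] [GrpObj B'] (hG : Red.IsReductive G)
    (i : B ⟶ G) (i' : B' ⟶ G) (hB : RedSub.IsBorelSub i) (hB' : RedSub.IsBorelSub i') (s : S) :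
    ∃ (W : Scheme.{u}) (f : W ⟶ S) (_ : Etale f), s ∈ Set.range f ∧ ∃ c₁ : Over.mk f ⟶ G, RedSub.ConjEq i i' c₁ := by
  haveI := hG.1; haveI := hG.2.1
  haveI := hB.1.1.1; haveI := hB'.1.1.1
  haveI := hB.1.2.1; haveI := hB'.1.2.1
  haveI := (Groth.Agent.S3962.result hG i hB).1
  haveI := (Groth.Agent.S3962.result hG i' hB').1
  obtain ⟨A, _, u, hu, ⟨a, rfl⟩, -, C, _, v, hv, hvs, T, _, iT, hiT, r, ⟨E⟩⟩ :=
    Groth.Agent.S3002.result S G (RedCartan.isConnected_fibre_of_isReductive hG) s (hG.2.2 s)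
  haveI := hu; haveI := hv
  let f₁ := v ≫ u
  haveI : Etale f₁ := inferInstanceAs (Etale (v ≫ u))
  let φ := Red.geomPt (u a)
  obtain ⟨φ₁, hφ₁⟩ := exists_geom_lift f₁ φ (by
    obtain ⟨c, hc⟩ := hvs.surj a
    exact ⟨c, by rw [MTImage.geomPt_closedPoint, Scheme.Hom.comp_apply, hc]⟩)
  have hG₁ := isReductive_bc f₁ hG
  haveI : IsClosedImmersion ((Over.pullback f₁).map i).left :=
    MorphismProperty.overPullbackMap (P := @IsClosedImmersion) f₁ i inferInstance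
  haveI : IsClosedImmersion ((Over.pullback f₁).map i').left :=
    MorphismProperty.overPullbackMap (P := @IsClosedImmersion) f₁ i' inferInstance
  haveI : Smooth (Red.bc f₁ B).hom := inferInstanceAs (Smooth (pullback.snd B.hom f₁))
  haveI : Smooth (Red.bc f₁ B').hom := inferInstanceAs (Smooth (pullback.snd B'.hom f₁))
  have hK : Red.IsBorelOver _ ((Over.pullback φ₁).map ((Over.pullback f₁).map i)) :=
    isBorelOver_map_map i f₁ φ₁ hφ₁ (hB.2 _)
  have hK' : Red.IsBorelOver _ ((Over.pullback φ₁).map ((Over.pullback f₁).map i')) :=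
    isBorelOver_map_map i' f₁ φ₁ hφ₁ (hB'.2 _)
  have hiD := RootBase.isMaximalTorus_DS hiT E
  -- the first torus
  obtain ⟨U₂, f₂, hf₂, i₁, t₁, h₂, hi₁, ht₁⟩ := exists_torus_le hG₁ _ hiD ((Over.pullback f₁).map i) φ₁ hK
  haveI := hf₂
  obtain ⟨φ₂, hφ₂⟩ := exists_geom_lift f₂ φ₁ h₂
  have hG₂ := isReductive_bc f₂ hG₁
  let j₂ : Red.bc f₂ (Red.bc f₁ B') ⟶ Red.bc f₂ (Red.bc f₁ G) := (Over.pullback f₂).map ((Over.pullback f₁).map i')
  haveI : IsClosedImmersion j₂.left :=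
    MorphismProperty.overPullbackMap (P := @IsClosedImmersion) f₂ _ inferInstance
  haveI : Smooth (Red.bc f₂ (Red.bc f₁ B')).hom := inferInstanceAs (Smooth (pullback.snd (Red.bc f₁ B').hom f₂))
  -- the second torus
  obtain ⟨U₃, f₃, hf₃, i₂, t₂, h₃, hi₂, ht₂⟩ := exists_torus_le hG₂ _ hi₁ j₂ φ₂
    (isBorelOver_map_map _ f₂ φ₂ hφ₂ hK')
  haveI := hf₃
  obtain ⟨φ₃, hφ₃⟩ := exists_geom_lift f₃ φ₂ h₃
  have hG₃ := isReductive_bc f₃ hG₂
  let j₁ : Red.bc f₂ (Red.bc f₁ B) ⟶ Red.bc f₂ (Red.bc f₁ G) := (Over.pullback f₂).map ((Over.pullback f₁).map i)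
  haveI : IsClosedImmersion j₁.left :=
    MorphismProperty.overPullbackMap (P := @IsClosedImmersion) f₂ _ inferInstance
  haveI : IsClosedImmersion ((Over.pullback f₃).map j₁).left :=
    MorphismProperty.overPullbackMap (P := @IsClosedImmersion) f₃ _ inferInstance
  haveI : IsClosedImmersion ((Over.pullback f₃).map j₂).left :=
    MorphismProperty.overPullbackMap (P := @IsClosedImmersion) f₃ _ inferInstance
  haveI : Smooth (Red.bc f₂ (Red.bc f₁ B)).hom := inferInstanceAs (Smooth (pullback.snd (Red.bc f₁ B).hom f₂))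
  haveI : Smooth (Red.bc f₃ (Red.bc f₂ (Red.bc f₁ B))).hom :=
    inferInstanceAs (Smooth (pullback.snd (Red.bc f₂ (Red.bc f₁ B)).hom f₃))
  haveI : Smooth (Red.bc f₃ (Red.bc f₂ (Red.bc f₁ B'))).hom :=
    inferInstanceAs (Smooth (pullback.snd (Red.bc f₂ (Red.bc f₁ B')).hom f₃))
  have hconn : ∀ {C : Over S} [GrpObj C] [LocallyOfFiniteType C.hom], (∀ s, ConnectedSpace (Red.geomFibre s C).left) → ∀ x,
      _root_.IsConnected ((Red.bc f₃ (Red.bc f₂ (Red.bc f₁ C))).hom.base ⁻¹' {x}) := fun {C} _ _ h =>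
    haveI : LocallyOfFiniteType (Red.bc f₁ C).hom := inferInstanceAs (LocallyOfFiniteType (pullback.snd C.hom f₁))
    haveI : LocallyOfFiniteType (Red.bc f₂ (Red.bc f₁ C)).hom :=
      inferInstanceAs (LocallyOfFiniteType (pullback.snd (Red.bc f₁ C).hom f₂))
    MTImage.isConnected_fibre_bc _ (MTImage.isConnected_fibre_bc _ (MTImage.isConnected_fibre_bc C
      (MTImage.isConnected_fibre_of_geom h) f₁) f₂) f₃
  obtain ⟨W, f₄, hf₄, h₄, c₄, hc₄, -⟩ := exists_conj_of_split hG₃ (bcHom' f₃ i₁) i₂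
    (RootBase.isMaximalTorus_bcHom' f₃ hG₂ hi₁) hi₂ ((Over.pullback f₃).map j₁) ((Over.pullback f₃).map j₂)
    (hconn fun s => (hB.2 s).2.2.2.1) (hconn fun s => (hB'.2 s).2.2.2.1)
    (ej f₃ _ ≫ (Over.pullback f₃).map t₁) (by rw [Category.assoc, ← Functor.map_comp, ht₁]; rfl) t₂ ht₂ φ₃
    (isBorelOver_map_map _ f₃ φ₃ hφ₃ (isBorelOver_map_map _ f₂ φ₂ hφ₂ hK))
    (isBorelOver_map_map _ f₃ φ₃ hφ₃ (isBorelOver_map_map _ f₂ φ₂ hφ₂ hK'))
  haveI := hf₄
  obtain ⟨φ₄, hφ₄⟩ := exists_geom_lift f₄ φ₃ h₄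
  obtain ⟨c₃, rfl⟩ := (SubGen.Locus.baseEquiv f₃ (Red.bc f₂ (Red.bc f₁ G)) _).surjective c₄
  have e₃ := conjEq_up f₃ j₁ j₂ c₃ hc₄
  obtain ⟨c₂, rfl⟩ := (SubGen.Locus.baseEquiv f₂ (Red.bc f₁ G) _).surjective c₃
  have e₂ := conjEq_up f₂ _ _ c₂ e₃
  obtain ⟨c₁, rfl⟩ := (SubGen.Locus.baseEquiv f₁ G _).surjective c₂
  have e₁ := conjEq_up f₁ i i' c₁ e₂
  refine ⟨W, ((f₄ ≫ f₃) ≫ f₂) ≫ f₁, inferInstance, ⟨φ₄ (IsLocalRing.closedPoint _), ?_⟩, c₁, e₁⟩
  rw [← Scheme.Hom.comp_apply]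
  simp only [← Category.assoc, hφ₄, hφ₃, hφ₂, hφ₁]
  exact MTImage.geomPt_closedPoint _

end Groth.Agent.BorelConj
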