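import Groth.Agent.BorelConj.Etale
set_option autoImplicit false
set_option linter.style.haveILetI false
set_option linter.unusedSectionVars false
set_option backward.isDefEq.respectTransparency false
set_option backward.isDefEq.respectTransparency.types false
set_option maxHeartbeats 4000000
set_option synthInstance.maxHeartbeats 400000
universe u
open CategoryTheory Limits MonoidalCategory CartesianMonoidalCategory MonObj AlgebraicGeometry LieS
open scoped CategoryTheory.Obj
noncomputable section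
namespace Groth.Agent.BorelConj
open Groth.Agent.DynPar Groth.Agent.HomDiag Groth.Agent.MTBridge
attribute [local instance] Functor.grpObjObj

/-- Being a Borel subgroup is preserved by extensions of algebraically closed fields. -/
theorem isBorelOver_ext {k K : Type u} [Field k] [IsAlgClosed k] [Field K] [IsAlgClosed K]
    {G B : Over (Spec (CommRingCat.of k))} [GrpObj G] [GrpObj B] (hG : Red.IsReductive G) (hred₀ : Red.IsReductiveOver k G) (b : B ⟶ G)
    (hB : Red.IsBorelOver k b) (j : Spec (CommRingCat.of K) ⟶ Spec (CommRingCat.of k)) :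
    Red.IsBorelOver K ((Over.pullback j).map b) := by
  obtain ⟨hGa, hGs, hGc⟩ := RedCartan.basic_of_isReductive hG
  haveI := hGa; haveI := hGs; haveI := hGc
  haveI := hG.1
  haveI := hB.1; haveI := hB.2.1
  obtain ⟨T, B₁, _, _, t, b₁, -, -, -, hT, -⟩ := Chev.Borel.exists_maxTorus G
  haveI := hT.1; haveI := hT.2.1
  obtain ⟨r, ⟨E⟩⟩ := Chev.Borel.split_of_isTorus hT.2.2.1
  have hTm := Chev.Borel.isMaximalTorus_of_isMaxTorus (t ≫ b₁) hT
  have hi := RootBase.isMaximalTorus_DS hTm E
  let i := E.inv.hom.hom ≫ t ≫ b₁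
  haveI := hi.1
  have hiM : AGF.IsMaxTorus i := Chev.Borel.isMaxTorus_of_isMaximalTorus i hi
  obtain ⟨mu, hmu⟩ := exists_regular (G := G) i
  obtain ⟨B₀, _, b₀, hb₀⟩ := exists_isP (G := G) (Red.DSmap _ mu ≫ i)
  haveI := hb₀.1; haveI := hb₀.2.1
  have hBor₀ := isBorelOver_of_regular hred₀ i hiM (exists_isCentralizerOf_self hred₀ i hiM) mu hmu b₀ hb₀
  have hred := isReductiveOver_pt hG j
  haveI : IsAffine ((Over.pullback j).obj G).left := hred.1
  haveI : Smooth ((Over.pullback j).obj G).hom := hred.2.1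
  haveI : ConnectedSpace ((Over.pullback j).obj G).left := hred.2.2.1
  haveI : Smooth (Red.bc j G).hom := hred.2.1
  haveI : IsAffine (Red.bc j G).left := hred.1
  haveI : ConnectedSpace (Red.bc j G).left := hred.2.2.1
  have hiK : AGF.IsMaxTorus (bcHom' j i) :=
    Chev.Borel.isMaxTorus_of_isMaximalTorus _ (RootBase.isMaximalTorus_bcHom' j hG hi)
  have hreg : Regular (bcHom' j i) mu := fun B' _ fa g hg => by
    rw [← bcHom'_DSmap] at hg
    have h1 : up j rfl g ∈ ZSub (fa ≫ j) (Red.DSmap _ mu ≫ i) :=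
      (mem_ZSub_down j rfl _).2 (by rwa [down_up])
    have h2 := (mem_ZSub_down j rfl i).1 (hmu _ _ _ h1)
    rwa [down_up] at h2
  have hK₀ : Red.IsBorelOver K ((Over.pullback j).map b₀) :=
    isBorelOver_of_regular hred _ hiK (exists_isCentralizerOf_self hred _ hiK) mu hreg _
      (bcHom'_DSmap j mu i ▸ hb₀.bc j)
  haveI : Mono b := Over.mono_of_mono_left b
  obtain ⟨g, f, hf⟩ := Chev.Borel.borel_conj b₀ b hBor₀ hB
  haveI : IsMonHom (AGF.conjBy g b₀) := Chev.Borel.isMonHom_conjBy g b₀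
  haveI : IsMonHom f.hom := MTSplit.isMonHom_of_comp_mono f.hom b _ hf
  haveI : IsMonHom (AGF.conjBy g (𝟙 G)) := Chev.Borel.isMonHom_conjBy g (𝟙 G)
  let e : G ≅ G := ⟨AGF.conjBy g (𝟙 G), AGF.conjBy g⁻¹ (𝟙 G), by
      rw [Chev.Borel.comp_conjBy', Category.comp_id, Chev.Borel.conjBy_conjBy, inv_mul_cancel, AGF.conjBy,
        MonObj.comp_one, _root_.one_mul, inv_one, _root_.mul_one], by
      rw [Chev.Borel.comp_conjBy', Category.comp_id, Chev.Borel.conjBy_conjBy, mul_inv_cancel, AGF.conjBy,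
        MonObj.comp_one, _root_.one_mul, inv_one, _root_.mul_one]⟩
  haveI : IsMonHom e.hom := inferInstanceAs (IsMonHom (AGF.conjBy g (𝟙 G)))
  haveI : IsMonHom f.inv := inferInstance
  haveI : IsMonHom e.inv := Chev.Borel.isMonHom_conjBy g⁻¹ (𝟙 G)
  let F := Over.pullback j
  haveI : IsMonHom (F.mapIso f.symm).hom := isMonHom_map' j f.inv
  haveI : IsMonHom (F.mapIso e.symm).hom := isMonHom_map' j e.inv
  refine isBorelOver_ambient (F.mapIso f.symm) (F.mapIso e.symm) _ _ ?_ hK₀
  show F.map f.inv ≫ F.map b₀ = F.map b ≫ F.map e.inv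
  rw [← F.map_comp, ← F.map_comp]
  congr 1
  rw [Iso.inv_comp_eq, ← Category.assoc, hf, Iso.eq_comp_inv]
  show b₀ ≫ AGF.conjBy g (𝟙 G) = _
  rw [Chev.Borel.comp_conjBy', Category.comp_id]

/-- The fibre of a Borel subgroup at any algebraically closed point is a Borel subgroup. -/
theorem isBorelOver_pt {S : Scheme.{u}} {G B : Over S} [GrpObj G] [GrpObj B] (hG : Red.IsReductive G) (b : B ⟶ G)
    {K : Type u} [Field K] [IsAlgClosed K] (φ : Spec (CommRingCat.of K) ⟶ S)
    (h : Red.IsBorelOver _ ((Over.pullback (Red.geomPt (φ (IsLocalRing.closedPoint K)))).map b)) :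
    Red.IsBorelOver K ((Over.pullback φ).map b) := by
  obtain ⟨τ, hτ⟩ := MTImage.exists_lift_geomPt φ
  have h2 := isBorelOver_ext (isReductive_bc _ hG) (hG.2.2 _) _ h τ
  obtain ⟨eB, heB, hB'⟩ := Chev.MaxTorusBC.exists_trIso hτ B
  obtain ⟨eG, heG, hG'⟩ := Chev.MaxTorusBC.exists_trIso hτ G
  haveI : IsMonHom eB.hom := hB'
  haveI : IsMonHom eG.hom := hG'
  refine isBorelOver_ambient eB eG _ _ ?_ h2
  rw [heB, heG, MTImage.trIso_natural]

end Groth.Agent.BorelConj
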