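import Groth.Agent.DynPar.FieldBorel
import Groth.Agent.S8060
import Groth.Agent.BPair.Twist
import Groth.Agent.MTImage.CartanGeom

/-!
# Borel subgroups at a geometric point
-/

set_option autoImplicit false
set_option linter.style.haveILetI false
set_option backward.isDefEq.respectTransparency false
set_option backward.isDefEq.respectTransparency.types false
set_option maxHeartbeats 2000000
set_option synthInstance.maxHeartbeats 400000

universe u

open CategoryTheory Limits MonoidalCategory CartesianMonoidalCategory MonObj AlgebraicGeometry LieS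
open scoped CategoryTheory.Obj

noncomputable section

namespace Groth.Agent.BorelConj

open Groth.Agent.DynPar Groth.Agent.HomDiag Groth.Agent.MTBridge

variable {k : Type u} [Field k]

/-- Borel subgroups are carried by isomorphisms. -/
theorem isBorelOver_ambient {G G' B B' : Over (Spec (CommRingCat.of k))} [GrpObj G] [GrpObj G'] [GrpObj B] [GrpObj B']
    (eB : B' ≅ B) [IsMonHom eB.hom] (eG : G' ≅ G) [IsMonHom eG.hom] (b : B ⟶ G) (b' : B' ⟶ G')
    (h : eB.hom ≫ b = b' ≫ eG.hom) (hb : Red.IsBorelOver k b) : Red.IsBorelOver k b' := by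
  obtain ⟨hm, hc, hs, hconn, ⟨n, hn⟩, hmax⟩ := hb
  haveI := hm; haveI := hc; haveI := hs; haveI := hconn
  haveI : IsIso eB.hom.left := inferInstanceAs (IsIso ((Over.forget _).map eB.hom))
  haveI : IsIso eG.hom.left := inferInstanceAs (IsIso ((Over.forget _).map eG.hom))
  haveI : IsIso eG.inv.left := inferInstanceAs (IsIso ((Over.forget _).map eG.inv))
  haveI : IsMonHom eG.inv := inferInstance
  have hb' : b' = eB.hom ≫ b ≫ eG.inv := by rw [← Category.assoc, h, Category.assoc, Iso.hom_inv_id, Category.comp_id]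
  refine ⟨?_, ?_, ?_, ?_, ⟨n, fun X => ?_⟩, ?_⟩
  · rw [hb']; infer_instance
  · rw [hb']; exact inferInstanceAs (IsClosedImmersion (eB.hom.left ≫ b.left ≫ eG.inv.left))
  · haveI : Smooth (eB.hom.left ≫ B.hom) := inferInstance
    rwa [Over.w eB.hom] at this
  · exact eB.hom.left.homeomorph.symm.surjective.connectedSpace eB.hom.left.homeomorph.symm.continuous
  · let f : (X ⟶ B) →* (X ⟶ B') := MonoidHom.mk' (fun a => a ≫ eB.inv) fun a c => by
      haveI : IsMonHom eB.inv := inferInstance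
      exact MonObj.mul_comp a c eB.inv
    have hf : Function.Surjective f := fun a => ⟨a ≫ eB.hom, by simp [f]⟩
    rw [← map_derivedSeries_eq hf n, hn, Subgroup.map_bot]
  intro B'' _ i'' _ f hi hs' hc' hsol hf
  haveI := hi
  haveI : IsClosedImmersion (i'' ≫ eG.hom).left := inferInstanceAs (IsClosedImmersion (i''.left ≫ eG.hom.left))
  haveI : IsIso (eB.inv ≫ f) := hmax B'' (i'' ≫ eG.hom) (eB.inv ≫ f) inferInstance hs' hc' hsol (by
    rw [Category.assoc, ← Category.assoc f, hf, ← h, Iso.inv_hom_id_assoc])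
  haveI : IsIso eB.inv := ⟨eB.hom, eB.inv_hom_id, eB.hom_inv_id⟩
  exact IsIso.of_isIso_comp_left eB.inv f

/-- Borel fibres do not depend on the intermediate base. -/
theorem isBorelOver_map_map {S U : Scheme.{u}} {B G : Over S} [GrpObj B] [GrpObj G] (b : B ⟶ G) (f : U ⟶ S)
    (ψ : Spec (CommRingCat.of k) ⟶ U) {φ : Spec (CommRingCat.of k) ⟶ S} (hφ : ψ ≫ f = φ)
    (h : Red.IsBorelOver k ((Over.pullback φ).map b)) :
    Red.IsBorelOver k ((Over.pullback ψ).map ((Over.pullback f).map b)) := by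
  obtain ⟨eB, heB, hB'⟩ := Chev.MaxTorusBC.exists_trIso hφ B
  obtain ⟨eG, heG, hG'⟩ := Chev.MaxTorusBC.exists_trIso hφ G
  haveI : IsMonHom eB.hom := hB'
  haveI : IsMonHom eG.hom := hG'
  haveI : IsMonHom eB.symm.hom := inferInstanceAs (IsMonHom eB.inv)
  haveI : IsMonHom eG.symm.hom := inferInstanceAs (IsMonHom eG.inv)
  have hn : (Over.pullback φ).map b ≫ eG.hom = eB.hom ≫ (Over.pullback ψ).map ((Over.pullback f).map b) := by
    rw [heB, heG, MTImage.trIso_natural]
  refine isBorelOver_ambient eB.symm eG.symm _ _ ?_ h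
  show eB.inv ≫ _ = _ ≫ eG.inv
  rw [Iso.inv_comp_eq, ← Category.assoc, Iso.eq_comp_inv, hn]

variable [IsAlgClosed k]

/-- **A Borel subgroup through a split maximal torus is a dynamical parabolic subgroup.** -/
theorem exists_cochar {G B' : Over (Spec (CommRingCat.of k))} [GrpObj G] [GrpObj B'] (hred : Red.IsReductiveOver k G)
    {r : ℕ} (iK : Red.DS (Spec (CommRingCat.of k)) (Fin r → ℤ) ⟶ G) (hiK : AGF.IsMaxTorus iK)
    (iB' : B' ⟶ G) (hB' : Red.IsBorelOver k iB') (t' : Red.DS (Spec (CommRingCat.of k)) (Fin r → ℤ) ⟶ B')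
    (ht' : t' ≫ iB' = iK) :
    ∃ (mu : (Fin r → ℤ) →+ ℤ) (P : Over (Spec (CommRingCat.of k))) (_ : GrpObj P) (p : P ⟶ G) (e : P ≅ B'),
      IsP (Red.DSmap _ mu ≫ iK) p ∧ e.hom ≫ iB' = p := by
  haveI := hred.1; haveI := hred.2.1; haveI := hred.2.2.1
  haveI : IsAffineHom G.hom := isAffineHom_of_isAffine _
  haveI := hiK.1; haveI := hiK.2.1; haveI := hB'.1; haveI := hB'.2.1
  have hself := exists_isCentralizerOf_self hred iK hiK
  obtain ⟨mu, hmu⟩ := exists_regular (G := G) iK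
  obtain ⟨B₀, _, b₀, hb₀⟩ := exists_isP (G := G) (Red.DSmap _ mu ≫ iK)
  have hBor₀ := isBorelOver_of_regular hred iK hiK hself mu hmu b₀ hb₀
  haveI := hb₀.1; haveI := hb₀.2.1
  obtain ⟨t₀, ht₀⟩ := hb₀.exists_le iK fun B _ f y => ZSub_le_PSub f _ ((mem_ZSub_iff_commute f _).2
    fun B'' _ f'' x h => by
      rw [← Category.assoc h, ← Category.assoc x, ← MonObj.mul_comp, ← MonObj.mul_comp, DS_comm])
  obtain ⟨n, τ, σ, hτ, hσ⟩ := Groth.Agent.S3912.result k G _ _ _ iK b₀ iB' hiK hBor₀ hB' t₀ ht₀ t' ht'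
  haveI : IsMonHom (AGF.conjBy n iK) := Chev.Borel.isMonHom_conjBy n iK
  haveI : IsMonHom τ.hom := MTSplit.isMonHom_of_comp_mono τ.hom iK _ hτ
  obtain ⟨w, hw⟩ := Chev.CharQuot.exists_DSmap (k := k) τ.hom
  haveI : IsMonHom (AGF.conjBy n (𝟙 G)) := Chev.Borel.isMonHom_conjBy n (𝟙 G)
  haveI : IsIso (AGF.conjBy n (𝟙 G)) := ⟨AGF.conjBy n⁻¹ (𝟙 G), by
      rw [Chev.Borel.comp_conjBy', Category.comp_id, Chev.Borel.conjBy_conjBy, inv_mul_cancel, AGF.conjBy,
        MonObj.comp_one, _root_.one_mul, inv_one, _root_.mul_one], by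
      rw [Chev.Borel.comp_conjBy', Category.comp_id, Chev.Borel.conjBy_conjBy, mul_inv_cancel, AGF.conjBy,
        MonObj.comp_one, _root_.one_mul, inv_one, _root_.mul_one]⟩
  have htr := hb₀.transport (AGF.conjBy n (𝟙 G))
  have h1 : (Red.DSmap _ mu ≫ iK) ≫ AGF.conjBy n (𝟙 G) = Red.DSmap _ (mu.comp w) ≫ iK := by
    rw [Chev.Borel.comp_conjBy', Category.comp_id, ← Chev.Borel.comp_conjBy' n (Red.DSmap _ mu) iK, ← hτ, hw,
      reassoc_of% (RootIntrinsic.DSmap_comp_apply (k := k) mu w)]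
  rw [h1, Chev.Borel.comp_conjBy', Category.comp_id] at htr
  exact ⟨mu.comp w, B₀, inferInstance, AGF.conjBy n b₀, σ, htr, hσ⟩

end Groth.Agent.BorelConj
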