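import Groth.Agent.BorelConj.BSub

/-!
# Killing pairs are conjugate étale-locally
-/

set_option autoImplicit false
set_option linter.style.haveILetI false
set_option linter.unusedSectionVars false
set_option backward.isDefEq.respectTransparency false
set_option backward.isDefEq.respectTransparency.types false
set_option maxHeartbeats 4000000
set_option synthInstance.maxHeartbeats 400000

universe u

open CategoryTheory Limits MonoidalCategory CartesianMonoidalCategory MonObj AlgebraicGeometry LieS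
open scoped CategoryTheory.Obj
open Groth.Agent.SubGen (ratEquiv)

noncomputable section

namespace Groth.Agent.BorelConj

open Groth.Agent.DynPar Groth.Agent.HomDiag Groth.Agent.MTBridge

attribute [local instance] Functor.grpObjObj

/-- Conjugacy does not depend on the parametrisation of the subgroups. -/
theorem conjEq_of_isos {U : Scheme.{u}} {G A₁ A₂ B₁ B₂ : Over U} [GrpObj G] (a : A₁ ⟶ G) (b : A₂ ⟶ G)
    (e₁ : B₁ ≅ A₁) (e₂ : B₂ ≅ A₂) {X : Over U} (g : X ⟶ G)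
    (h : RedSub.ConjEq (e₁.hom ≫ a) (e₂.hom ≫ b) g) : RedSub.ConjEq a b g := fun X' x => by
  obtain ⟨h1, h2⟩ := h X' x
  refine ⟨fun z => ?_, fun z => ?_⟩
  · obtain ⟨w, hw⟩ := h1 (z ≫ e₁.inv)
    rw [Category.assoc z, Iso.inv_hom_id_assoc, ← Category.assoc w] at hw
    exact ⟨w ≫ e₂.hom, hw⟩
  · obtain ⟨w, hw⟩ := h2 (z ≫ e₂.inv)
    rw [Category.assoc z, Iso.inv_hom_id_assoc, ← Category.assoc w] at hw
    exact ⟨w ≫ e₁.hom, hw⟩

/-- **Maximal tori are conjugate étale-locally.** -/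
theorem exists_etale_conjBy {S : Scheme.{u}} {G T₁ T₂ : Over S} [GrpObj G] [GrpObj T₁] [GrpObj T₂]
    (hG : Red.IsReductive G) (i₁ : T₁ ⟶ G) (h₁ : Red.IsMaximalTorus i₁) (i₂ : T₂ ⟶ G) (h₂ : Red.IsMaximalTorus i₂)
    (s : S) :
    ∃ (W : Scheme.{u}) (f : W ⟶ S) (_ : Etale f), s ∈ Set.range f ∧
      ∃ g : 𝟙_ (Over W) ⟶ Red.bc f G, SGA3x.ConjBy ((Over.pullback f).map i₁) ((Over.pullback f).map i₂) g := by
  haveI := hG.1; haveI := hG.2.1
  haveI := h₁.1; haveI := h₁.2.1; haveI := h₂.1; haveI := h₂.2.1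
  obtain ⟨N, n, hn, hNs, hNu⟩ := MTImage.exists_transporterEq_tori T₁ T₂ G h₁.2.2.1 h₂.2.2.1 i₁ i₂
  haveI := hNs
  obtain ⟨g, hg⟩ := MTImage.exists_geom_transport i₁ h₁ i₂ h₂ s
  obtain ⟨ν, hν⟩ := (hNu _ g).2 fun X' x => hg X' x
  obtain ⟨W, f, w, hf, hfw, l, hl⟩ := SmSect.exists_etale_section N.hom (ν.left (IsLocalRing.closedPoint _))
  let x₀ : Over.mk f ⟶ N := Over.homMk l hl
  have hc : RedSub.ConjEq i₁ i₂ (x₀ ≫ n) := fun X' x => (hNu _ _).1 ⟨x₀, rfl⟩ X' x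
  have hc' := conjEq_bc f i₁ i₂ (x₀ ≫ n) hc
  haveI : Mono ((Over.pullback f).map i₁) := inferInstance
  haveI : Mono ((Over.pullback f).map i₂) := inferInstance
  refine ⟨W, f, hf, ⟨w, hfw.trans ?_⟩, ratEquiv f G (x₀ ≫ n),
    MTImage.conjBy_of_transporter _ _ _ (fun X h => ((hc' X (toUnit X)).1 h)) (fun X h => ((hc' X (toUnit X)).2 h))⟩
  rw [← Scheme.Hom.comp_apply, Over.w ν]
  exact MTImage.geomPt_closedPoint s

/-- **A maximal torus is split by an étale extension when some maximal torus is split.** -/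
theorem exists_split_iso {U : Scheme.{u}} {G T : Over U} [GrpObj G] [GrpObj T] {r : ℕ} (hG : Red.IsReductive G)
    (c₀ : Red.DS U (Fin r → ℤ) ⟶ G) (h₀ : Red.IsMaximalTorus c₀) (i : T ⟶ G) (hi : Red.IsMaximalTorus i) (p : U) :
    ∃ (W : Scheme.{u}) (f : W ⟶ U) (_ : Etale f) (e : Red.DS W (Fin r → ℤ) ≅ Red.bc f T), p ∈ Set.range f ∧
      Red.IsMaximalTorus (e.hom ≫ (Over.pullback f).map i) := by
  obtain ⟨W, f, hf, hp, g, φ, hφ⟩ := exists_etale_conjBy hG c₀ h₀ i hi p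
  haveI := isIso_ej f (Fin r → ℤ)
  refine ⟨W, f, hf, asIso (ej f (Fin r → ℤ)) ≪≫ φ, hp, ?_⟩
  have e : (asIso (ej f (Fin r → ℤ)) ≪≫ φ).hom ≫ (Over.pullback f).map i = AGF.conjBy g (bcHom' f c₀) := by
    rw [Iso.trans_hom, Category.assoc, ← hφ]
    simp only [MonObj.comp_mul, GrpObj.comp_inv, ← Category.assoc, comp_toUnit, asIso_hom]
    rfl
  rw [e]
  exact RedCartan.isMaximalTorus_conjBy g _ (RootBase.isMaximalTorus_bcHom' f hG h₀)

/-- Conjugacy of Borel subgroups and split tori in them. -/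
theorem exists_conj_pair_split {U : Scheme.{u}} {G B B' T T' : Over U} [GrpObj G] [GrpObj B] [GrpObj B'] [GrpObj T]
    [GrpObj T'] {r : ℕ} (hG : Red.IsReductive G) (e₁ : Red.DS U (Fin r → ℤ) ≅ T) (e₂ : Red.DS U (Fin r → ℤ) ≅ T')
    (iT : T ⟶ G) (iT' : T' ⟶ G) (hi₁ : Red.IsMaximalTorus (e₁.hom ≫ iT)) (hi₂ : Red.IsMaximalTorus (e₂.hom ≫ iT'))
    (iB : B ⟶ G) (iB' : B' ⟶ G) [IsMonHom iB] [IsClosedImmersion iB.left] [Smooth B.hom] [IsMonHom iB']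
    [IsClosedImmersion iB'.left] [Smooth B'.hom]
    (hBc : ∀ s : U, _root_.IsConnected (B.hom.base ⁻¹' {s}))
    (hBc' : ∀ s : U, _root_.IsConnected (B'.hom.base ⁻¹' {s}))
    (t : T ⟶ B) (ht : t ≫ iB = iT) (t' : T' ⟶ B') (ht' : t' ≫ iB' = iT')
    {K : Type u} [Field K] [IsAlgClosed K] (φ : Spec (CommRingCat.of K) ⟶ U)
    (hK : Red.IsBorelOver K ((Over.pullback φ).map iB)) (hK' : Red.IsBorelOver K ((Over.pullback φ).map iB')) :
    ∃ (W : Scheme.{u}) (f : W ⟶ U) (_ : Etale f), φ (IsLocalRing.closedPoint K) ∈ Set.range f ∧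
      ∃ c₁ : Over.mk f ⟶ G, RedSub.ConjEq iB iB' c₁ ∧ RedSub.ConjEq iT iT' c₁ := by
  obtain ⟨W, f, hf, hw, c₁, hc, hc'⟩ := exists_conj_of_split hG _ _ hi₁ hi₂ iB iB' hBc hBc'
    (e₁.hom ≫ t) (by rw [Category.assoc, ht]) (e₂.hom ≫ t') (by rw [Category.assoc, ht']) φ hK hK'
  exact ⟨W, f, hf, hw, c₁, hc, conjEq_of_isos iT iT' e₁ e₂ c₁ hc'⟩

/-- **Killing pairs are conjugate étale-locally.** -/
theorem exists_conj_killing {S : Scheme.{u}} {G B B' T T' : Over S} [GrpObj G] [GrpObj B] [GrpObj B']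
    [GrpObj T] [GrpObj T'] (hG : Red.IsReductive G) (i : B ⟶ G) (i' : B' ⟶ G) (hB : RedSub.IsBorelSub i)
    (hB' : RedSub.IsBorelSub i') (t : T ⟶ B) (t' : T' ⟶ B') [IsMonHom t] [IsMonHom t']
    (hT : Red.IsMaximalTorus (t ≫ i)) (hT' : Red.IsMaximalTorus (t' ≫ i')) (s : S) :
    ∃ (U : Scheme.{u}) (f : U ⟶ S) (_ : Etale f), s ∈ Set.range f.base ∧
      ∃ g : 𝟙_ _ ⟶ Red.bc f G, RedSub.ConjEq ((Over.pullback f).map i) ((Over.pullback f).map i') g ∧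
        RedSub.ConjEq ((Over.pullback f).map (t ≫ i)) ((Over.pullback f).map (t' ≫ i')) g := by
  haveI := hG.1; haveI := hG.2.1
  haveI := hB.1.1.1; haveI := hB'.1.1.1
  haveI := hB.1.2.1; haveI := hB'.1.2.1
  haveI := (Groth.Agent.S3962.result hG i hB).1
  haveI := (Groth.Agent.S3962.result hG i' hB').1
  obtain ⟨A, _, u, hu, ⟨a, rfl⟩, -, C, _, v, hv, hvs, T₀, _, iT₀, hiT₀, r, ⟨E⟩⟩ :=
    Groth.Agent.S3002.result S G (RedCartan.isConnected_fibre_of_isReductive hG) s (hG.2.2 s)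
  haveI := hu; haveI := hv
  let f₁ := v ≫ u
  haveI : Etale f₁ := inferInstanceAs (Etale (v ≫ u))
  let φ := Red.geomPt (u a)
  obtain ⟨φ₁, hφ₁⟩ := exists_geom_lift f₁ φ (by
    obtain ⟨c, hc⟩ := hvs.surj a
    exact ⟨c, by rw [MTImage.geomPt_closedPoint, Scheme.Hom.comp_apply, hc]⟩)
  have hG₁ := isReductive_bc f₁ hG
  haveI : Smooth (Red.bc f₁ G).hom := hG₁.2.1
  haveI : IsAffineHom (Red.bc f₁ G).hom := hG₁.1
  have hiD := RootBase.isMaximalTorus_DS hiT₀ E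
  -- splitting the first torus
  obtain ⟨U₂, f₂, hf₂, e₂, h₂, hi₂⟩ := exists_split_iso hG₁ _ hiD ((Over.pullback f₁).map (t ≫ i))
    (Chev.MaxTorusBC.isMaximalTorus_bc _ hT f₁) (φ₁ (IsLocalRing.closedPoint _))
  haveI := hf₂
  obtain ⟨φ₂, hφ₂⟩ := exists_geom_lift f₂ φ₁ h₂
  have hG₂ := isReductive_bc f₂ hG₁
  haveI : Smooth (Red.bc f₂ (Red.bc f₁ G)).hom := hG₂.2.1
  haveI : IsAffineHom (Red.bc f₂ (Red.bc f₁ G)).hom := hG₂.1
  -- splitting the second torus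
  obtain ⟨U₃, f₃, hf₃, e₃, h₃, hi₃⟩ := exists_split_iso hG₂ _ hi₂ ((Over.pullback f₂).map ((Over.pullback f₁).map (t' ≫ i')))
    (Chev.MaxTorusBC.isMaximalTorus_bc _ (Chev.MaxTorusBC.isMaximalTorus_bc _ hT' f₁) f₂) (φ₂ (IsLocalRing.closedPoint _))
  haveI := hf₃
  obtain ⟨φ₃, hφ₃⟩ := exists_geom_lift f₃ φ₂ h₃
  have hG₃ := isReductive_bc f₃ hG₂
  haveI := isIso_ej f₃ (Fin r → ℤ)
  let e₂' := asIso (ej f₃ (Fin r → ℤ)) ≪≫ (Over.pullback f₃).mapIso e₂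
  have hi₂' : Red.IsMaximalTorus (e₂'.hom ≫
      (Over.pullback f₃).map ((Over.pullback f₂).map ((Over.pullback f₁).map (t ≫ i)))) := by
    have := RootBase.isMaximalTorus_bcHom' f₃ hG₂ hi₂
    have e : e₂'.hom ≫ (Over.pullback f₃).map ((Over.pullback f₂).map ((Over.pullback f₁).map (t ≫ i))) =
        bcHom' f₃ (e₂.hom ≫ (Over.pullback f₂).map ((Over.pullback f₁).map (t ≫ i))) := by
      rw [Iso.trans_hom, Category.assoc, Functor.mapIso_hom, ← Functor.map_comp]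
      rfl
    rwa [e]
  let F₁ := Over.pullback f₁
  let F₂ := Over.pullback f₂
  let F₃ := Over.pullback f₃
  haveI : IsClosedImmersion (F₁.map i).left := MorphismProperty.overPullbackMap (P := @IsClosedImmersion) f₁ i inferInstance
  haveI : IsClosedImmersion (F₁.map i').left := MorphismProperty.overPullbackMap (P := @IsClosedImmersion) f₁ i' inferInstance
  haveI : IsClosedImmersion (F₂.map (F₁.map i)).left :=
    MorphismProperty.overPullbackMap (P := @IsClosedImmersion) f₂ _ inferInstance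
  haveI : IsClosedImmersion (F₂.map (F₁.map i')).left :=
    MorphismProperty.overPullbackMap (P := @IsClosedImmersion) f₂ _ inferInstance
  haveI : IsClosedImmersion (F₃.map (F₂.map (F₁.map i))).left :=
    MorphismProperty.overPullbackMap (P := @IsClosedImmersion) f₃ _ inferInstance
  haveI : IsClosedImmersion (F₃.map (F₂.map (F₁.map i'))).left :=
    MorphismProperty.overPullbackMap (P := @IsClosedImmersion) f₃ _ inferInstance
  haveI : Smooth (Red.bc f₁ B).hom := inferInstanceAs (Smooth (pullback.snd B.hom f₁))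
  haveI : Smooth (Red.bc f₁ B').hom := inferInstanceAs (Smooth (pullback.snd B'.hom f₁))
  haveI : Smooth (Red.bc f₂ (Red.bc f₁ B)).hom := inferInstanceAs (Smooth (pullback.snd (Red.bc f₁ B).hom f₂))
  haveI : Smooth (Red.bc f₂ (Red.bc f₁ B')).hom := inferInstanceAs (Smooth (pullback.snd (Red.bc f₁ B').hom f₂))
  haveI : Smooth (Red.bc f₃ (Red.bc f₂ (Red.bc f₁ B))).hom :=
    inferInstanceAs (Smooth (pullback.snd (Red.bc f₂ (Red.bc f₁ B)).hom f₃))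
  haveI : Smooth (Red.bc f₃ (Red.bc f₂ (Red.bc f₁ B'))).hom :=
    inferInstanceAs (Smooth (pullback.snd (Red.bc f₂ (Red.bc f₁ B')).hom f₃))
  have hconn : ∀ {C : Over S} [GrpObj C] [LocallyOfFiniteType C.hom], (∀ s, ConnectedSpace (Red.geomFibre s C).left) → ∀ x,
      _root_.IsConnected ((Red.bc f₃ (Red.bc f₂ (Red.bc f₁ C))).hom.base ⁻¹' {x}) := fun {C} _ _ h =>
    haveI : LocallyOfFiniteType (Red.bc f₁ C).hom := inferInstanceAs (LocallyOfFiniteType (pullback.snd C.hom f₁))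
    haveI : LocallyOfFiniteType (Red.bc f₂ (Red.bc f₁ C)).hom :=
      inferInstanceAs (LocallyOfFiniteType (pullback.snd (Red.bc f₁ C).hom f₂))
    MTImage.isConnected_fibre_bc _ (MTImage.isConnected_fibre_bc _ (MTImage.isConnected_fibre_bc C
      (MTImage.isConnected_fibre_of_geom h) f₁) f₂) f₃
  obtain ⟨W, f₄, hf₄, h₄, c₄, hc₄, hd₄⟩ := exists_conj_pair_split hG₃ e₂' e₃ _ _ hi₂' hi₃
    (F₃.map (F₂.map (F₁.map i))) (F₃.map (F₂.map (F₁.map i')))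
    (hconn fun s => (hB.2 s).2.2.2.1) (hconn fun s => (hB'.2 s).2.2.2.1)
    (F₃.map (F₂.map (F₁.map t))) (by simp only [F₁, F₂, F₃, ← Functor.map_comp])
    (F₃.map (F₂.map (F₁.map t'))) (by simp only [F₁, F₂, F₃, ← Functor.map_comp]) φ₃
    (isBorelOver_map_map _ f₃ φ₃ hφ₃ (isBorelOver_map_map _ f₂ φ₂ hφ₂ (isBorelOver_map_map i f₁ φ₁ hφ₁ (hB.2 _))))
    (isBorelOver_map_map _ f₃ φ₃ hφ₃ (isBorelOver_map_map _ f₂ φ₂ hφ₂ (isBorelOver_map_map i' f₁ φ₁ hφ₁ (hB'.2 _))))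
  haveI := hf₄
  obtain ⟨φ₄, hφ₄⟩ := exists_geom_lift f₄ φ₃ h₄
  obtain ⟨c₃, rfl⟩ := (SubGen.Locus.baseEquiv f₃ (Red.bc f₂ (Red.bc f₁ G)) _).surjective c₄
  have b₃ := conjEq_up f₃ _ _ c₃ hc₄
  have d₃ := conjEq_up f₃ _ _ c₃ hd₄
  obtain ⟨c₂, rfl⟩ := (SubGen.Locus.baseEquiv f₂ (Red.bc f₁ G) _).surjective c₃
  have b₂ := conjEq_up f₂ _ _ c₂ b₃
  have d₂ := conjEq_up f₂ _ _ c₂ d₃
  obtain ⟨c₁, rfl⟩ := (SubGen.Locus.baseEquiv f₁ G _).surjective c₂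
  have b₁ := conjEq_up f₁ i i' c₁ b₂
  have d₁ := conjEq_up f₁ (t ≫ i) (t' ≫ i') c₁ d₂
  refine ⟨W, ((f₄ ≫ f₃) ≫ f₂) ≫ f₁, inferInstance, ⟨φ₄ (IsLocalRing.closedPoint _), ?_⟩,
    ratEquiv _ G c₁, conjEq_bc _ i i' c₁ b₁, conjEq_bc _ _ _ c₁ d₁⟩
  rw [← Scheme.Hom.comp_apply]
  simp only [← Category.assoc, hφ₄, hφ₃, hφ₂, hφ₁]
  exact MTImage.geomPt_closedPoint _

end Groth.Agent.BorelConj
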