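import Groth.Agent.SubGen.CommGeom
import Groth.Agent.RootBase.Pinned

/-!
# Points of base changes
-/

set_option autoImplicit false
set_option linter.style.haveILetI false
set_option backward.isDefEq.respectTransparency false
set_option backward.isDefEq.respectTransparency.types false
set_option maxHeartbeats 2000000
set_option synthInstance.maxHeartbeats 400000

universe u

open CategoryTheory Limits MonoidalCategory CartesianMonoidalCategory MonObj AlgebraicGeometry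
open scoped CategoryTheory.Obj
open Groth.Agent.SubGen (ratEquiv)

noncomputable section

namespace Groth.Agent.BorelConj

attribute [local instance] Functor.grpObjObj

variable {S S' : Scheme.{u}} (ψ : S' ⟶ S) {G : Over S} [GrpObj G]

/-- The base point of a scheme over `S'`. -/
def proj (X : Over S') : (Over.map ψ).obj X ⟶ Over.mk ψ := Over.homMk X.hom

theorem equiv_comp {H : Over S} [GrpObj H] {X : Over S'} (a : (Over.map ψ).obj X ⟶ H) (h : H ⟶ G) :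
    SubGen.Locus.baseEquiv ψ G X (a ≫ h) = SubGen.Locus.baseEquiv ψ H X a ≫ (Over.pullback ψ).map h :=
  (Over.mapPullbackAdj ψ).homEquiv_naturality_right a h

theorem equiv_unit (c₀ : Over.mk ψ ⟶ G) (X : Over S') :
    toUnit X ≫ ratEquiv ψ G c₀ = SubGen.Locus.baseEquiv ψ G X (proj ψ X ≫ c₀) := by
  let e : (Over.map ψ).obj (𝟙_ (Over S')) ≅ Over.mk ψ := Over.isoMk (Iso.refl _) (by
    show 𝟙 _ ≫ ψ = 𝟙 _ ≫ ψ
    rfl)
  show toUnit X ≫ (Over.mapPullbackAdj ψ).homEquiv _ G (e.hom ≫ c₀) = (Over.mapPullbackAdj ψ).homEquiv _ G _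
  rw [← (Over.mapPullbackAdj ψ).homEquiv_naturality_left]
  refine congrArg _ (Over.OverMorphism.ext ?_)
  show X.hom ≫ 𝟙 _ ≫ c₀.left = X.hom ≫ c₀.left
  rw [Category.id_comp]

/-- Lifting through a base change. -/
theorem mem_bc_iff {H : Over S} [GrpObj H] (h : H ⟶ G) {X : Over S'} (a : (Over.map ψ).obj X ⟶ G) :
    (∃ z : X ⟶ Red.bc ψ H, z ≫ (Over.pullback ψ).map h = SubGen.Locus.baseEquiv ψ G X a) ↔
      ∃ z : (Over.map ψ).obj X ⟶ H, z ≫ h = a := by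
  constructor
  · rintro ⟨z, hz⟩
    obtain ⟨z, rfl⟩ := (SubGen.Locus.baseEquiv ψ H X).surjective z
    rw [← equiv_comp] at hz
    exact ⟨z, (SubGen.Locus.baseEquiv ψ G X).injective hz⟩
  · rintro ⟨z, rfl⟩
    exact ⟨_, (equiv_comp ψ z h).symm⟩

/-- Lifting does not depend on the presentation of the source. -/
theorem mem_iso_iff {H X Y : Over S} (e : X ≅ Y) (h : H ⟶ G) (a : Y ⟶ G) :
    (∃ z : X ⟶ H, z ≫ h = e.hom ≫ a) ↔ ∃ z : Y ⟶ H, z ≫ h = a := by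
  constructor
  · rintro ⟨z, hz⟩
    exact ⟨e.inv ≫ z, by rw [Category.assoc, hz, Iso.inv_hom_id_assoc]⟩
  · rintro ⟨z, rfl⟩
    exact ⟨e.hom ≫ z, Category.assoc _ _ _⟩

/-- Two subgroups with the same points on a base change. -/
theorem exists_iso_of_iff {A B : Over S} [GrpObj A] [GrpObj B] (a : A ⟶ G) (b : B ⟶ G)
    [Mono ((Over.pullback ψ).map a)] [Mono ((Over.pullback ψ).map b)]
    (h : ∀ (X : Over S') (g : (Over.map ψ).obj X ⟶ G), (∃ z, z ≫ a = g) ↔ ∃ z, z ≫ b = g) :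
    ∃ e : Red.bc ψ A ≅ Red.bc ψ B, e.hom ≫ (Over.pullback ψ).map b = (Over.pullback ψ).map a := by
  have key : ∀ {A B : Over S} [GrpObj A] [GrpObj B] (a : A ⟶ G) (b : B ⟶ G),
      (∀ (X : Over S') (g : (Over.map ψ).obj X ⟶ G), (∃ z, z ≫ a = g) → ∃ z, z ≫ b = g) →
        ∃ f : Red.bc ψ A ⟶ Red.bc ψ B, f ≫ (Over.pullback ψ).map b = (Over.pullback ψ).map a := by
    intro A B _ _ a b h
    obtain ⟨ε, hε⟩ := (SubGen.Locus.baseEquiv ψ A (Red.bc ψ A)).surjective (𝟙 _)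
    obtain ⟨z, hz⟩ := h _ _ ⟨ε, rfl⟩
    refine ⟨SubGen.Locus.baseEquiv ψ B _ z, ?_⟩
    rw [← equiv_comp, hz, equiv_comp, hε, Category.id_comp]
  obtain ⟨f, hf⟩ := key a b fun X g => (h X g).1
  obtain ⟨f', hf'⟩ := key b a fun X g => (h X g).2
  exact ⟨⟨f, f', by rw [← cancel_mono ((Over.pullback ψ).map a), Category.assoc, hf', hf, Category.id_comp],
    by rw [← cancel_mono ((Over.pullback ψ).map b), Category.assoc, hf, hf', Category.id_comp]⟩, hf⟩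

/-- Isomorphic base changes have the same points. -/
theorem iff_of_iso {A B : Over S} [GrpObj A] [GrpObj B] (a : A ⟶ G) (b : B ⟶ G) (e : Red.bc ψ A ≅ Red.bc ψ B)
    (he : e.hom ≫ (Over.pullback ψ).map b = (Over.pullback ψ).map a) (X : Over S') (g : (Over.map ψ).obj X ⟶ G) :
    (∃ z, z ≫ a = g) ↔ ∃ z, z ≫ b = g := by
  rw [← mem_bc_iff ψ a g, ← mem_bc_iff ψ b g]
  constructor
  · rintro ⟨z, hz⟩
    exact ⟨z ≫ e.hom, by rw [Category.assoc, he, hz]⟩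
  · rintro ⟨z, hz⟩
    exact ⟨z ≫ e.inv, by rw [Category.assoc, ← he, Iso.inv_hom_id_assoc, hz]⟩

/-- Conjugacy over a base change is conjugacy over the base. -/
theorem conjEq_up {A B : Over S} [GrpObj A] [GrpObj B] (a : A ⟶ G) (b : B ⟶ G) {W : Over S'}
    (c₀ : (Over.map ψ).obj W ⟶ G)
    (h : RedSub.ConjEq ((Over.pullback ψ).map a) ((Over.pullback ψ).map b) (SubGen.Locus.baseEquiv ψ G W c₀)) :
    RedSub.ConjEq a b c₀ := by
  intro X x
  have hx : x.left ≫ W.hom ≫ ψ = X.hom := Over.w x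
  let Y : Over S' := Over.mk (x.left ≫ W.hom)
  let e₀ : (Over.map ψ).obj Y ≅ X := Over.isoMk (Iso.refl _) (by
    show 𝟙 _ ≫ X.hom = (x.left ≫ W.hom) ≫ ψ
    rw [Category.id_comp, Category.assoc, hx])
  let y : Y ⟶ W := Over.homMk x.left rfl
  have hy : (Over.map ψ).map y = e₀.hom ≫ x := Over.OverMorphism.ext (Category.id_comp _).symm
  have hc₀ : y ≫ SubGen.Locus.baseEquiv ψ G W c₀ = SubGen.Locus.baseEquiv ψ G Y (e₀.hom ≫ x ≫ c₀) := by
    show y ≫ (Over.mapPullbackAdj ψ).homEquiv _ G c₀ = (Over.mapPullbackAdj ψ).homEquiv _ G _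
    rw [← (Over.mapPullbackAdj ψ).homEquiv_naturality_left, hy, Category.assoc]
  obtain ⟨h1, h2⟩ := h Y y
  refine ⟨fun z => ?_, fun z => ?_⟩
  · obtain ⟨z', hz'⟩ := h1 (SubGen.Locus.baseEquiv ψ A Y (e₀.hom ≫ z))
    rw [hc₀, ← equiv_comp, ← map_inv, ← map_mul, ← map_mul] at hz'
    obtain ⟨w, hw⟩ := (mem_bc_iff ψ b _).1 ⟨z', hz'.symm⟩
    obtain ⟨w', hw'⟩ := (mem_iso_iff e₀ b ((x ≫ c₀) * (z ≫ a) * (x ≫ c₀)⁻¹)).1 ⟨w, by
      rw [hw, MonObj.comp_mul, MonObj.comp_mul, GrpObj.comp_inv, Category.assoc]⟩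
    exact ⟨w', hw'.symm⟩
  · obtain ⟨z', hz'⟩ := h2 (SubGen.Locus.baseEquiv ψ B Y (e₀.hom ≫ z))
    rw [hc₀, ← equiv_comp, ← map_inv, ← map_mul, ← map_mul] at hz'
    obtain ⟨w, hw⟩ := (mem_bc_iff ψ a _).1 ⟨z', hz'.symm⟩
    obtain ⟨w', hw'⟩ := (mem_iso_iff e₀ a ((x ≫ c₀)⁻¹ * (z ≫ b) * (x ≫ c₀))).1 ⟨w, by
      rw [hw, MonObj.comp_mul, MonObj.comp_mul, GrpObj.comp_inv, Category.assoc]⟩
    exact ⟨w', hw'.symm⟩

/-- Conjugacy passes to a base change. -/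
theorem conjEq_bc {A B : Over S} [GrpObj A] [GrpObj B] (a : A ⟶ G) (b : B ⟶ G) (c₀ : Over.mk ψ ⟶ G)
    (h : RedSub.ConjEq a b c₀) :
    RedSub.ConjEq ((Over.pullback ψ).map a) ((Over.pullback ψ).map b) (ratEquiv ψ G c₀) := by
  intro X x
  obtain ⟨h1, h2⟩ := h ((Over.map ψ).obj X) (proj ψ X)
  obtain rfl := toUnit_unique x (toUnit X)
  refine ⟨fun z => ?_, fun z => ?_⟩
  · obtain ⟨z, rfl⟩ := (SubGen.Locus.baseEquiv ψ A X).surjective z
    obtain ⟨w, hw⟩ := h1 z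
    refine ⟨SubGen.Locus.baseEquiv ψ B X w, ?_⟩
    rw [equiv_unit, ← equiv_comp, ← equiv_comp, ← map_inv, ← map_mul, ← map_mul, hw]
  · obtain ⟨z, rfl⟩ := (SubGen.Locus.baseEquiv ψ B X).surjective z
    obtain ⟨w, hw⟩ := h2 z
    refine ⟨SubGen.Locus.baseEquiv ψ A X w, ?_⟩
    rw [equiv_unit, ← equiv_comp, ← equiv_comp, ← map_inv, ← map_mul, ← map_mul, hw]

end Groth.Agent.BorelConj
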