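import Groth.Agent.BorelConj.Nhd
import Groth.Agent.BorelConj.Field
import Groth.Agent.BorelConj.Points
import Groth.Agent.RootBase.Main
import Groth.Agent.TorScheme.Reductive
import Groth.Agent.SmSect.Basic
import Groth.Agent.SubGen.SpreadBase
import Groth.Agent.S5287
import Groth.Agent.S8442

/-!
# Borel subgroups are conjugate locally for the étale topology
-/

set_option autoImplicit false
set_option linter.style.haveILetI false
set_option linter.unusedSectionVars false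
set_option backward.isDefEq.respectTransparency false
set_option backward.isDefEq.respectTransparency.types false
set_option maxHeartbeats 4000000
set_option synthInstance.maxHeartbeats 400000

universe u

open CategoryTheory Limits MonoidalCategory CartesianMonoidalCategory MonObj AlgebraicGeometry LieS
open scoped CategoryTheory.Obj
open Groth.Agent.SubGen (ratEquiv)

noncomputable section

namespace Groth.Agent.BorelConj

open Groth.Agent.DynPar Groth.Agent.HomDiag Groth.Agent.MTBridge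

attribute [local instance] Functor.grpObjObj

/-- Reductive groups are reductive at every geometric point. -/
theorem isReductiveOver_pt {S : Scheme.{u}} {G : Over S} [GrpObj G] (hG : Red.IsReductive G) {K : Type u} [Field K]
    [IsAlgClosed K] (φ : Spec (CommRingCat.of K) ⟶ S) : Red.IsReductiveOver K (Red.bc φ G) := by
  haveI := hG.1; haveI := hG.2.1
  haveI : IsAffineHom (Red.bc φ G).hom := inferInstanceAs (IsAffineHom (pullback.snd G.hom φ))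
  refine ⟨isAffine_of_isAffineHom (Red.bc φ G).hom, inferInstanceAs (Smooth (pullback.snd G.hom φ)),
    TorusLift.connectedSpace_bc_geom (RedCartan.isConnected_fibre_of_isReductive hG) φ, ?_⟩
  exact (RedOpen.noUni_bc_iff G (Red.geomPt (φ (IsLocalRing.closedPoint K))) φ (MTImage.geomPt_closedPoint _)).1
    (hG.2.2 _).2.2.2

/-- Geometric points lift along étale maps. -/
theorem exists_geom_lift {S U : Scheme.{u}} (f : U ⟶ S) [LocallyOfFiniteType f] {K : Type u} [Field K] [IsAlgClosed K]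
    (φ : Spec (CommRingCat.of K) ⟶ S) (h : φ (IsLocalRing.closedPoint K) ∈ Set.range f) :
    ∃ ψ : Spec (CommRingCat.of K) ⟶ U, ψ ≫ f = φ := by
  let fo : Over.mk f ⟶ Over.mk (𝟙 S) := Over.homMk f
  haveI : LocallyOfFiniteType fo.left := ‹LocallyOfFiniteType f›
  obtain ⟨ψ, hψ⟩ := SubGen.Spread.exists_lift fo φ (Over.homMk φ) h
  exact ⟨ψ.left, Over.w ψ⟩

variable {U : Scheme.{u}} {G B B' : Over U} [GrpObj G] [GrpObj B] [GrpObj B'] {r : ℕ}

/-- Near a point where it is so, a subgroup is the dynamical parabolic subgroup, on points. -/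
theorem exists_nhd_mem_iff [IsAffineHom G.hom] [Smooth G.hom] (hGc : ∀ s : U, ConnectedSpace (Red.geomFibre s G).left)
    (i : B ⟶ G) [IsMonHom i] [IsClosedImmersion i.left] [Smooth B.hom]
    (hBc : ∀ s : U, _root_.IsConnected (B.hom.base ⁻¹' {s})) {c : Red.DS U ℤ ⟶ G} [IsMonHom c]
    (hc : ∃ cB, cB ≫ i = c) {P : Over U} [GrpObj P] {p : P ⟶ G} (hP : IsP c p) {K : Type u} [Field K]
    (φ : Spec (CommRingCat.of K) ⟶ U)
    (he : ∀ (X : Over (Spec (CommRingCat.of K))) (g : (Over.map φ).obj X ⟶ G),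
      (∃ z, z ≫ i = g) ↔ ∃ z, z ≫ p = g) :
    ∃ V : U.Opens, φ (IsLocalRing.closedPoint K) ∈ V ∧ ∀ (X : Over (V : Scheme.{u})) (g : (Over.map V.ι).obj X ⟶ G),
      (∃ z, z ≫ i = g) ↔ ∃ z, z ≫ p = g := by
  obtain ⟨cB, rfl⟩ := hc
  haveI : Mono i := Over.mono_of_mono_left i
  haveI : IsMonHom cB := MTSplit.isMonHom_of_comp_mono cB i _ rfl
  haveI := hP.2.1
  haveI : IsClosedImmersion ((Over.pullback φ).map i).left :=
    MorphismProperty.overPullbackMap (P := @IsClosedImmersion) φ i inferInstance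
  haveI : IsClosedImmersion ((Over.pullback φ).map p).left :=
    MorphismProperty.overPullbackMap (P := @IsClosedImmersion) φ p inferInstance
  haveI : Mono ((Over.pullback φ).map i) := Over.mono_of_mono_left _
  haveI : Mono ((Over.pullback φ).map p) := Over.mono_of_mono_left _
  obtain ⟨e, hee⟩ := exists_iso_of_iff φ i p he
  obtain ⟨V, hV, d, hd⟩ := exists_nhd_eq_isP hGc i hBc hP φ e hee
  exact ⟨V, hV, iff_of_iso V.ι i p d hd⟩

/-- The data at the geometric point. -/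
theorem exists_geom_data (hG : Red.IsReductive G) (i₁ i₂ : Red.DS U (Fin r → ℤ) ⟶ G)
    (hi₁ : Red.IsMaximalTorus i₁) (hi₂ : Red.IsMaximalTorus i₂) (iB : B ⟶ G) (iB' : B' ⟶ G)
    [IsMonHom iB] [IsClosedImmersion iB.left] [Smooth B.hom] [IsMonHom iB'] [IsClosedImmersion iB'.left] [Smooth B'.hom]
    (hBc : ∀ s : U, _root_.IsConnected (B.hom.base ⁻¹' {s}))
    (hBc' : ∀ s : U, _root_.IsConnected (B'.hom.base ⁻¹' {s}))
    (tB : Red.DS U (Fin r → ℤ) ⟶ B) (htB : tB ≫ iB = i₁) (tB' : Red.DS U (Fin r → ℤ) ⟶ B') (htB' : tB' ≫ iB' = i₂)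
    {K : Type u} [Field K] [IsAlgClosed K] (φ : Spec (CommRingCat.of K) ⟶ U)
    (hK : Red.IsBorelOver K ((Over.pullback φ).map iB)) (hK' : Red.IsBorelOver K ((Over.pullback φ).map iB')) :
    ∃ (mu : (Fin r → ℤ) →+ ℤ) (P : Over U) (_ : GrpObj P) (p : P ⟶ G) (N : Over U) (n : N ⟶ G) (_ : Smooth N.hom)
      (ν : Over.mk φ ⟶ N), IsMonHom (Red.DSmap U mu ≫ i₂) ∧ IsP (Red.DSmap U mu ≫ i₂) p ∧
      (∀ (X : Over (Spec (CommRingCat.of K))) (a : (Over.map φ).obj X ⟶ G),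
        ((∃ z, z ≫ iB = (proj φ X ≫ ν ≫ n)⁻¹ * a * (proj φ X ≫ ν ≫ n)) ↔ ∃ z, z ≫ iB' = a) ∧
        ((∃ z, z ≫ iB' = a) ↔ ∃ z, z ≫ p = a)) ∧
      (∀ (X : Over U) (x : X ⟶ N) (t : X ⟶ Red.DS U (Fin r → ℤ)),
        ∃ t', (x ≫ n)⁻¹ * (t ≫ i₂) * (x ≫ n) = t' ≫ i₁) ∧
      ∀ (X : Over U) (x : X ⟶ N), RedSub.ConjEq i₁ i₂ (x ≫ n) := by
  haveI := hG.1; haveI := hG.2.1
  haveI := hi₁.1; haveI := hi₁.2.1; haveI := hi₂.1; haveI := hi₂.2.1
  have hGc : ∀ s : U, ConnectedSpace (Red.geomFibre s G).left := fun s => (hG.2.2 s).2.2.1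
  -- the geometric point
  let F := Over.pullback φ
  have hred := isReductiveOver_pt hG φ
  haveI : IsAffine (F.obj G).left := hred.1
  haveI : Smooth (F.obj G).hom := hred.2.1
  haveI : ConnectedSpace (F.obj G).left := hred.2.2.1
  have hmax : ∀ (i : Red.DS U (Fin r → ℤ) ⟶ G), Red.IsMaximalTorus i → AGF.IsMaxTorus (bcHom' φ i) := fun i hi =>
    Chev.Borel.isMaxTorus_of_isMaximalTorus _ (RootBase.isMaximalTorus_bcHom' φ hG hi)
  have hfac : ∀ {C : Over U} [GrpObj C] (j : C ⟶ G) (t : Red.DS U (Fin r → ℤ) ⟶ C) (i : Red.DS U (Fin r → ℤ) ⟶ G),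
      t ≫ j = i → (ej φ (Fin r → ℤ) ≫ F.map t) ≫ F.map j = bcHom' φ i := fun j t i h => by
    rw [Category.assoc, ← F.map_comp, h]; rfl
  obtain ⟨g, σ, τ, hσ, hτ⟩ := Groth.Agent.S8060.result K (F.obj G) _ _ _ _ (F.map iB) (F.map iB') hK hK'
    (bcHom' φ i₁) (bcHom' φ i₂) (hmax i₁ hi₁) (hmax i₂ hi₂) _ (hfac iB tB i₁ htB) _ (hfac iB' tB' i₂ htB')
  obtain ⟨mu, P₀, _, p₀, e₀, hP₀, he₀⟩ := exists_cochar hred (bcHom' φ i₂) (hmax i₂ hi₂) (F.map iB') hK' _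
    (hfac iB' tB' i₂ htB')
  let c : Red.DS U ℤ ⟶ G := Red.DSmap U mu ≫ i₂
  haveI : IsMonHom c := isMonHom_comp' (Red.DSmap U mu) i₂
  obtain ⟨P, _, p, hP⟩ := exists_isP (G := G) c
  haveI := hP.1; haveI := hP.2.1
  obtain ⟨d, hd⟩ := (show IsP (Red.DSmap _ mu ≫ bcHom' φ i₂) (F.map p) from bcHom'_DSmap φ mu i₂ ▸ hP.bc φ).exists_iso hP₀
  -- membership at the geometric point
  have hKmem : ∀ (X : Over (Spec (CommRingCat.of K))) (a : (Over.map φ).obj X ⟶ G),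
      (∃ z, z ≫ iB' = a) ↔ ∃ z, z ≫ p = a :=
    iff_of_iso φ iB' p (e₀.symm ≪≫ d.symm) (by
      rw [Iso.trans_hom, Iso.symm_hom, Iso.symm_hom, Category.assoc, ← hd, Iso.inv_hom_id_assoc, ← he₀,
        Iso.inv_hom_id_assoc])
  obtain ⟨g₀, rfl⟩ := (ratEquiv φ G).surjective g
  have hKconj : ∀ (X : Over (Spec (CommRingCat.of K))) (a : (Over.map φ).obj X ⟶ G),
      (∃ z, z ≫ iB = (proj φ X ≫ g₀)⁻¹ * a * (proj φ X ≫ g₀)) ↔ ∃ z, z ≫ iB' = a := by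
    intro X a
    rw [← mem_bc_iff φ iB, ← mem_bc_iff φ iB', map_mul, map_mul, map_inv, ← equiv_unit]
    constructor
    · rintro ⟨z, hz⟩
      refine ⟨z ≫ σ.hom, ?_⟩
      rw [Category.assoc, hσ, Chev.Borel.comp_conjBy', hz, AGF.conjBy]
      group
    · rintro ⟨z, hz⟩
      refine ⟨z ≫ σ.inv, ?_⟩
      have h1 : (z ≫ σ.inv) ≫ AGF.conjBy (ratEquiv φ G g₀) (F.map iB) = z ≫ F.map iB' := by
        rw [← hσ, Category.assoc, Iso.inv_hom_id_assoc]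
      rw [Chev.Borel.comp_conjBy', hz, AGF.conjBy] at h1
      rw [← h1]
      group
      rfl
  -- the transporter of the tori
  have hDS : SGA3x.IsMultTypeFT (Red.DS U (Fin r → ℤ)) := MTBridge.isMultTypeFT_of_isTorus _ hi₁.2.2.1
  obtain ⟨N, n, hn, hNs, hNu⟩ := Groth.Agent.S5287.result _ _ G hDS hDS inferInstance inferInstance i₁ i₂
  haveI := hNs; haveI := hn
  have hτ' : ∀ (X : Over (Spec (CommRingCat.of K))) (a : (Over.map φ).obj X ⟶ G),
      (∃ z, z ≫ i₁ = (proj φ X ≫ g₀)⁻¹ * a * (proj φ X ≫ g₀)) ↔ ∃ z, z ≫ i₂ = a := by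
    intro X a
    haveI := isIso_ej φ (Fin r → ℤ)
    have key : ∀ (i : Red.DS U (Fin r → ℤ) ⟶ G) (b : X ⟶ Red.bc φ G),
        (∃ z, z ≫ bcHom' φ i = b) ↔ ∃ z, z ≫ F.map i = b := fun i b => by
      constructor
      · rintro ⟨z, rfl⟩
        exact ⟨z ≫ ej φ _, Category.assoc _ _ _⟩
      · rintro ⟨z, rfl⟩
        exact ⟨z ≫ inv (ej φ _), by simp [bcHom', F]⟩
    rw [← mem_bc_iff φ i₁, ← mem_bc_iff φ i₂, map_mul, map_mul, map_inv, ← equiv_unit, ← key, ← key]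
    constructor
    · rintro ⟨z, hz⟩
      refine ⟨z ≫ τ.hom, ?_⟩
      rw [Category.assoc, hτ, Chev.Borel.comp_conjBy', hz, AGF.conjBy]
      group
    · rintro ⟨z, hz⟩
      refine ⟨z ≫ τ.inv, ?_⟩
      have h1 : (z ≫ τ.inv) ≫ AGF.conjBy (ratEquiv φ G g₀) (bcHom' φ i₁) = z ≫ bcHom' φ i₂ := by
        rw [← hτ, Category.assoc, Iso.inv_hom_id_assoc]
      rw [Chev.Borel.comp_conjBy', hz, AGF.conjBy] at h1
      rw [← h1]
      group
  obtain ⟨ν, hν⟩ : ∃ ν : Over.mk φ ⟶ N, ν ≫ n = g₀ := by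
    refine (hNu _ g₀).2 fun X x => ?_
    let Y : Over (Spec (CommRingCat.of K)) := Over.mk x.left
    let e : (Over.map φ).obj Y ≅ X := Over.isoMk (Iso.refl _) (by
      show 𝟙 _ ≫ X.hom = x.left ≫ φ
      rw [Category.id_comp]; exact (Over.w x).symm)
    have hx : proj φ Y = e.hom ≫ x := Over.OverMorphism.ext (Category.id_comp _).symm
    refine ⟨fun z => ?_, fun z => ?_⟩
    · obtain ⟨w, hw⟩ := (hτ' Y (e.hom ≫ ((x ≫ g₀) * (z ≫ i₁) * (x ≫ g₀)⁻¹))).1 ⟨e.hom ≫ z, by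
        rw [hx]; simp only [MonObj.comp_mul, GrpObj.comp_inv, Category.assoc]; group⟩
      exact ⟨e.inv ≫ w, by rw [Category.assoc, hw, Iso.inv_hom_id_assoc]⟩
    · obtain ⟨w, hw⟩ := (hτ' Y (e.hom ≫ z ≫ i₂)).2 ⟨e.hom ≫ z, Category.assoc _ _ _⟩
      refine ⟨e.inv ≫ w, ?_⟩
      rw [Category.assoc, hw, hx]
      simp only [MonObj.comp_mul, GrpObj.comp_inv, Category.assoc, Iso.inv_hom_id_assoc]
  refine ⟨mu, P, inferInstance, p, N, n, hNs, ν, inferInstance, hP, fun X a => ⟨?_, hKmem X a⟩,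
    fun X x t => ?_, fun X x X' y => ?_⟩
  · have h := hKconj X a
    rwa [← hν] at h
  · simpa using ((hNu X (x ≫ n)).1 ⟨x, rfl⟩ X (𝟙 X)).2 t
  · exact (hNu X (x ≫ n)).1 ⟨x, rfl⟩ X' y

/-- **Two Borel subgroups through split maximal tori are conjugate étale-locally.** -/
theorem exists_conj_of_split (hG : Red.IsReductive G) (i₁ i₂ : Red.DS U (Fin r → ℤ) ⟶ G)
    (hi₁ : Red.IsMaximalTorus i₁) (hi₂ : Red.IsMaximalTorus i₂) (iB : B ⟶ G) (iB' : B' ⟶ G)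
    [IsMonHom iB] [IsClosedImmersion iB.left] [Smooth B.hom] [IsMonHom iB'] [IsClosedImmersion iB'.left] [Smooth B'.hom]
    (hBc : ∀ s : U, _root_.IsConnected (B.hom.base ⁻¹' {s}))
    (hBc' : ∀ s : U, _root_.IsConnected (B'.hom.base ⁻¹' {s}))
    (tB : Red.DS U (Fin r → ℤ) ⟶ B) (htB : tB ≫ iB = i₁) (tB' : Red.DS U (Fin r → ℤ) ⟶ B') (htB' : tB' ≫ iB' = i₂)
    {K : Type u} [Field K] [IsAlgClosed K] (φ : Spec (CommRingCat.of K) ⟶ U)
    (hK : Red.IsBorelOver K ((Over.pullback φ).map iB)) (hK' : Red.IsBorelOver K ((Over.pullback φ).map iB')) :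
    ∃ (W : Scheme.{u}) (f : W ⟶ U) (_ : Etale f), φ (IsLocalRing.closedPoint K) ∈ Set.range f ∧
      ∃ c₁ : Over.mk f ⟶ G, RedSub.ConjEq iB iB' c₁ ∧ RedSub.ConjEq i₁ i₂ c₁ := by
  haveI := hG.1; haveI := hG.2.1
  obtain ⟨mu, P, _, p, N, n, hNs, ν, hcm, hP, hK0, hNt, hNc⟩ :=
    exists_geom_data hG i₁ i₂ hi₁ hi₂ iB iB' hBc hBc' tB htB tB' htB' φ hK hK'
  haveI := hNs; haveI := hcm; haveI := hP.1; haveI := hP.2.1
  let c : Red.DS U ℤ ⟶ G := Red.DSmap U mu ≫ i₂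
  -- over the transporter
  let ψ := N.hom
  let F' := Over.pullback ψ
  let n' : Over.mk ψ ⟶ G := Over.homMk n.left (Over.w n)
  let gN : 𝟙_ (Over N.left) ⟶ Red.bc ψ G := ratEquiv ψ G n'
  haveI : IsMonHom (RootBase.cjIso gN).hom :=
    HomDiag.isMonHom_of_mul _ fun X x y => by
      show (x * y) ≫ RootBase.cj gN (𝟙 _) = x ≫ RootBase.cj gN (𝟙 _) * y ≫ RootBase.cj gN (𝟙 _)
      simp only [RootBase.comp_cj, Category.comp_id, RootBase.cj_mul]
  haveI : IsIso (RootBase.cjIso gN).hom.left :=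
    inferInstanceAs (IsIso ((Over.forget _).map (RootBase.cjIso gN).hom))
  haveI : IsClosedImmersion (F'.map iB).left :=
    MorphismProperty.overPullbackMap (P := @IsClosedImmersion) ψ iB inferInstance
  haveI : IsClosedImmersion (F'.map iB').left :=
    MorphismProperty.overPullbackMap (P := @IsClosedImmersion) ψ iB' inferInstance
  let iB'' : Red.bc ψ B ⟶ Red.bc ψ G := F'.map iB ≫ (RootBase.cjIso gN).hom
  haveI : IsMonHom iB'' := isMonHom_comp' _ _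
  haveI : IsClosedImmersion iB''.left :=
    inferInstanceAs (IsClosedImmersion ((F'.map iB).left ≫ (RootBase.cjIso gN).hom.left))
  haveI : Smooth (Red.bc ψ B).hom := inferInstanceAs (Smooth (pullback.snd B.hom ψ))
  haveI : Smooth (Red.bc ψ B').hom := inferInstanceAs (Smooth (pullback.snd B'.hom ψ))
  haveI : Smooth (Red.bc ψ G).hom := inferInstanceAs (Smooth (pullback.snd G.hom ψ))
  haveI : IsAffineHom (Red.bc ψ G).hom := MorphismProperty.pullback_snd (P := @IsAffineHom) G.hom ψ hG.1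
  have hNGc : ∀ s : N.left, ConnectedSpace (Red.geomFibre s (Red.bc ψ G)).left := fun s =>
    ((isReductive_bc ψ hG).2.2 s).2.2.1
  have hB'' : ∀ (X : Over N.left) (a : (Over.map ψ).obj X ⟶ G),
      (∃ z, z ≫ iB'' = SubGen.Locus.baseEquiv ψ G X a) ↔
        ∃ z, z ≫ iB = (proj ψ X ≫ n')⁻¹ * a * (proj ψ X ≫ n') := by
    intro X a
    rw [← mem_bc_iff ψ iB, map_mul, map_mul, map_inv, ← equiv_unit]
    refine exists_congr fun z => ?_
    show z ≫ F'.map iB ≫ RootBase.cj gN (𝟙 _) = _ ↔ _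
    rw [RootBase.comp_cj, RootBase.comp_cj, Category.comp_id, RootBase.cj]
    change _ ↔ z ≫ F'.map iB = (toUnit X ≫ gN)⁻¹ * SubGen.Locus.baseEquiv ψ G X a * (toUnit X ≫ gN)
    constructor
    · intro h; rw [← h]; group
    · intro h; rw [h]; group
  let cN : Red.DS N.left ℤ ⟶ Red.bc ψ G := bcHom' ψ c
  haveI : IsMonHom cN := isMonHom_comp' (ej ψ ℤ) (F'.map c)
  have hcN : ∃ a, cN = SubGen.Locus.baseEquiv ψ G _ a ∧ ∃ t, t ≫ i₂ = a := by
    obtain ⟨a, ha⟩ := (SubGen.Locus.baseEquiv ψ (Red.DS U (Fin r → ℤ)) _).surjective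
      (ej ψ ℤ ≫ F'.map (Red.DSmap U mu))
    exact ⟨a ≫ i₂, by rw [equiv_comp, ha, Category.assoc, ← F'.map_comp]; rfl, a, rfl⟩
  obtain ⟨a, hca, t, ht⟩ := hcN
  have hc' : ∃ cB, cB ≫ F'.map iB' = cN := by
    rw [hca]
    exact (mem_bc_iff ψ iB' a).2 ⟨t ≫ tB', by rw [Category.assoc, htB', ht]⟩
  have hc'' : ∃ cB, cB ≫ iB'' = cN := by
    rw [hca]
    refine (hB'' _ a).2 ?_
    obtain ⟨h₁, hh₁⟩ := hNt _ (proj ψ (Red.DS N.left ℤ)) t
    refine ⟨h₁ ≫ tB, ?_⟩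
    rw [Category.assoc, htB, ← hh₁, ← ht]
    rfl
  have hPN : IsP cN (F'.map p) := hP.bc ψ
  let ν' : Spec (CommRingCat.of K) ⟶ N.left := ν.left
  have hν' : ν' ≫ ψ = φ := Over.w ν
  have hbase : ∀ (X : Over (Spec (CommRingCat.of K))) (g : (Over.map ν').obj X ⟶ Red.bc ψ G),
      ((∃ z, z ≫ iB'' = g) ↔ ∃ z, z ≫ F'.map p = g) ∧ ((∃ z, z ≫ F'.map iB' = g) ↔ ∃ z, z ≫ F'.map p = g) := by
    intro X g
    obtain ⟨a, rfl⟩ := (SubGen.Locus.baseEquiv ψ G _).surjective g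
    let e : (Over.map φ).obj X ≅ (Over.map ψ).obj ((Over.map ν').obj X) := Over.isoMk (Iso.refl _) (by
      show 𝟙 _ ≫ (X.hom ≫ ν') ≫ ψ = X.hom ≫ φ
      rw [Category.id_comp, Category.assoc, hν'])
    have hπ : e.hom ≫ proj ψ ((Over.map ν').obj X) ≫ n' = proj φ X ≫ ν ≫ n := by
      refine Over.OverMorphism.ext ?_
      show 𝟙 _ ≫ (X.hom ≫ ν') ≫ n.left = X.hom ≫ ν.left ≫ n.left
      rw [Category.id_comp, Category.assoc]
    rw [hB'', mem_bc_iff, mem_bc_iff, ← mem_iso_iff e iB, ← mem_iso_iff e iB', ← mem_iso_iff e p, ← (hK0 X _).2]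
    simp only [MonObj.comp_mul, GrpObj.comp_inv, hπ]
    exact ⟨(hK0 X (e.hom ≫ a)).1, trivial⟩
  obtain ⟨V₁, hV₁, h₁⟩ := exists_nhd_mem_iff hNGc iB'' (MTImage.isConnected_fibre_bc B hBc ψ) hc'' hPN ν'
    fun X g => (hbase X g).1
  obtain ⟨V₂, hV₂, h₂⟩ := exists_nhd_mem_iff hNGc (F'.map iB') (MTImage.isConnected_fibre_bc B' hBc' ψ) hc' hPN ν'
    fun X g => (hbase X g).2
  -- a section
  let V : N.left.Opens := V₁ ⊓ V₂
  let v : (V : Scheme.{u}) := ⟨ν' (IsLocalRing.closedPoint K), hV₁, hV₂⟩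
  haveI : Smooth (V.ι ≫ ψ) := inferInstance
  obtain ⟨W, f, w, hf, hfw, l, hl⟩ := SmSect.exists_etale_section (V.ι ≫ ψ) v
  let x₀ : Over.mk f ⟶ N := Over.homMk (l ≫ V.ι) (by
    show (l ≫ V.ι) ≫ N.hom = f
    rw [Category.assoc]; exact hl)
  refine ⟨W, f, hf, ⟨w, hfw.trans ?_⟩, x₀ ≫ n, fun X x => ?_, hNc _ x₀⟩
  · show ψ (ν' (IsLocalRing.closedPoint K)) = _
    rw [← Scheme.Hom.comp_apply, hν']
  have key : ∀ a : X ⟶ G, (∃ z, z ≫ iB = (x ≫ x₀ ≫ n)⁻¹ * a * (x ≫ x₀ ≫ n)) ↔ ∃ z, z ≫ iB' = a := by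
    intro a
    let Y : Over N.left := Over.mk (x.left ≫ l ≫ V.ι)
    let e : (Over.map ψ).obj Y ≅ X := Over.isoMk (Iso.refl _) (by
      show 𝟙 _ ≫ X.hom = (x.left ≫ l ≫ V.ι) ≫ ψ
      rw [Category.id_comp, Category.assoc, Category.assoc, hl]
      exact (Over.w x).symm)
    have hπ : proj ψ Y ≫ n' = e.hom ≫ x ≫ x₀ ≫ n := by
      refine Over.OverMorphism.ext ?_
      show (x.left ≫ l ≫ V.ι) ≫ n.left = 𝟙 _ ≫ x.left ≫ (l ≫ V.ι) ≫ n.left
      simp only [Category.assoc, Category.id_comp]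
    have hV : ∀ (W' : N.left.Opens) (hW : V ≤ W'), ∃ Y' : Over (W' : Scheme.{u}), Nonempty (Y ≅ (Over.map W'.ι).obj Y') :=
      fun W' hW => ⟨Over.mk (x.left ≫ l ≫ N.left.homOfLE hW), ⟨Over.isoMk (Iso.refl _) (by
        show 𝟙 _ ≫ (x.left ≫ l ≫ N.left.homOfLE hW) ≫ W'.ι = x.left ≫ l ≫ V.ι
        rw [Category.id_comp, Category.assoc, Category.assoc, Scheme.homOfLE_ι])⟩⟩
    obtain ⟨Y₁, ⟨d₁⟩⟩ := hV V₁ inf_le_left
    obtain ⟨Y₂, ⟨d₂⟩⟩ := hV V₂ inf_le_right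
    have H : ∀ g : Y ⟶ Red.bc ψ G, (∃ z, z ≫ iB'' = g) ↔ ∃ z, z ≫ F'.map iB' = g := by
      intro g
      have e1 := h₁ Y₁ (d₁.inv ≫ g)
      have e2 := h₂ Y₂ (d₂.inv ≫ g)
      rw [show (d₁.inv ≫ g) = d₁.symm.hom ≫ g from rfl, mem_iso_iff, mem_iso_iff] at e1
      rw [show (d₂.inv ≫ g) = d₂.symm.hom ≫ g from rfl, mem_iso_iff, mem_iso_iff] at e2
      exact e1.trans e2.symm
    have h3 := H (SubGen.Locus.baseEquiv ψ G Y (e.hom ≫ a))
    rw [hB'', mem_bc_iff, hπ, mem_iso_iff] at h3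
    rw [← mem_iso_iff e iB, ← h3]
    simp only [MonObj.comp_mul, GrpObj.comp_inv]
  refine ⟨fun z => ?_, fun z => ?_⟩
  · obtain ⟨w, hw⟩ := (key ((x ≫ x₀ ≫ n) * (z ≫ iB) * (x ≫ x₀ ≫ n)⁻¹)).1 ⟨z, by group⟩
    exact ⟨w, hw.symm⟩
  · obtain ⟨w, hw⟩ := (key (z ≫ iB')).2 ⟨z, rfl⟩
    exact ⟨w, hw.symm⟩

end Groth.Agent.BorelConj
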