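import Groth.Agent.DynPar.Main
import Groth.Agent.NeronSS.Main
import Groth.Agent.Torsor.Descent

/-!
# A subgroup equal to a dynamical parabolic subgroup at one point is equal to it nearby
-/

set_option autoImplicit false
set_option linter.style.haveILetI false
set_option backward.isDefEq.respectTransparency false
set_option backward.isDefEq.respectTransparency.types false
set_option maxHeartbeats 2000000
set_option synthInstance.maxHeartbeats 400000

universe u

open CategoryTheory Limits MonoidalCategory CartesianMonoidalCategory MonObj AlgebraicGeometry LieS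
open scoped CategoryTheory.Obj

noncomputable section

namespace Groth.Agent.BorelConj

open Groth.Agent.DynPar Groth.Agent.HomDiag Groth.Agent.MTBridge

variable {S : Scheme.{u}}

/-- An isomorphism at a field-valued point is one on the fibre. -/
theorem isIso_fib_of_pt {A B : Over S} (u : A ⟶ B) {K : Type u} [Field K] (φ : Spec (CommRingCat.of K) ⟶ S)
    (h : IsIso ((Over.pullback φ).map u)) :
    IsIso (GrpField.fibHom u (φ (IsLocalRing.closedPoint K))) := by
  let p := Scheme.SpecToEquivOfField K S φ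
  let j : Spec (CommRingCat.of K) ⟶ Spec (S.residueField p.1) := Spec.map p.2
  have hφ : j ≫ S.fromSpecResidueField p.1 = φ := (Scheme.SpecToEquivOfField K S).symm_apply_apply φ
  have h' : IsIso ((Over.pullback (S.fromSpecResidueField p.1) ⋙ Over.pullback j).map u) := by
    have key : ∀ ψ, ψ = φ → IsIso ((Over.pullback ψ).map u) := by rintro _ rfl; exact h
    exact (NatIso.isIso_map_iff (Over.pullbackComp j (S.fromSpecResidueField p.1)) u).1 (key _ hφ)
  haveI : Flat j := inferInstance
  haveI : Surjective j := inferInstance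
  haveI : IsIso ((Over.pullback j).map (GrpField.fibHom u p.1)) := h'
  exact Torsor.isIso_of_pullback j (GrpField.fibHom u p.1)

/-- A closed subgroup which is everything on one fibre is everything nearby. -/
theorem exists_nhd_isIso {A B : Over S} [GrpObj A] [GrpObj B] (u : A ⟶ B) [IsMonHom u] [IsClosedImmersion u.left]
    [Smooth A.hom] [Smooth B.hom] (hB : ∀ s : S, _root_.IsConnected (B.hom.base ⁻¹' {s}))
    {K : Type u} [Field K] (φ : Spec (CommRingCat.of K) ⟶ S) (h : IsIso ((Over.pullback φ).map u)) :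
    ∃ V : S.Opens, φ (IsLocalRing.closedPoint K) ∈ V ∧ IsIso ((Over.pullback V.ι).map u) := by
  let s := φ (IsLocalRing.closedPoint K)
  haveI hi : IsIso (GrpField.fibHom u s) := isIso_fib_of_pt u φ h
  haveI : IsIso (GrpField.fibHom u s).left :=
    inferInstanceAs (IsIso ((Over.forget _).map (GrpField.fibHom u s)))
  obtain ⟨V, hs, hV⟩ := NeronSS.exists_open_flat_lqf u (s := s) inferInstance inferInstance
  refine ⟨V, hs, ?_⟩
  obtain ⟨-, hfl⟩ := NeronSS.flat_restrict u V fun x hx => (hV x hx).1
  let w := (Over.pullback V.ι).map u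
  haveI : Flat w.left := hfl
  haveI : IsClosedImmersion w.left :=
    MorphismProperty.overPullbackMap (P := @IsClosedImmersion) V.ι u inferInstance
  haveI : Smooth (Red.bc V.ι A).hom := inferInstanceAs (Smooth (pullback.snd A.hom V.ι))
  haveI : Smooth (Red.bc V.ι B).hom := inferInstanceAs (Smooth (pullback.snd B.hom V.ι))
  haveI : LocallyOfFinitePresentation w.left := GrpLoc.lfp_left w
  haveI : IsOpenImmersion w.left := IsOpenImmersion.of_flat_of_mono w.left
  haveI : Surjective w.left := by
    refine ⟨fun x => ?_⟩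
    let a : pullback B.hom V.ι ⟶ B.left := pullback.fst B.hom V.ι
    haveI : IsOpenImmersion a := inferInstance
    let t := (Red.bc V.ι B).hom x
    let e := (η[Red.bc V.ι B]).left t
    have hR : IsClopen (Set.range w.left) :=
      ⟨w.left.isClosedEmbedding.isClosed_range, w.left.isOpenEmbedding.isOpen_range⟩
    have hC : _root_.IsConnected ((Red.bc V.ι B).hom.base ⁻¹' {t}) := by
      have himg : a.base '' ((Red.bc V.ι B).hom.base ⁻¹' {t}) = B.hom.base ⁻¹' {V.ι t} := by
        ext y
        constructor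
        · rintro ⟨z, hz, rfl⟩
          show B.hom (a z) = V.ι t
          rw [← Scheme.Hom.comp_apply, pullback.condition, Scheme.Hom.comp_apply]
          exact congrArg V.ι hz
        · intro hy
          obtain ⟨z, rfl⟩ : y ∈ Set.range a := by
            show y ∈ Set.range (pullback.fst B.hom V.ι)
            rw [Scheme.Pullback.range_fst, Scheme.Opens.range_ι]
            exact Eq.mpr (congrArg (· ∈ (V : Set S)) (show B.hom y = V.ι t from hy)) t.2
          refine ⟨z, V.ι.isOpenEmbedding.injective ?_, rfl⟩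
          rw [← Scheme.Hom.comp_apply]
          exact (congrArg (fun m : pullback B.hom V.ι ⟶ S => m z) pullback.condition).symm.trans hy
      refine ⟨⟨x, rfl⟩, ?_⟩
      rw [← a.isOpenEmbedding.isInducing.isPreconnected_image, himg]
      exact (hB _).isPreconnected
    have hsub := hC.isPreconnected.subset_isClopen hR
      ⟨e, show (Red.bc V.ι B).hom e = t by
          rw [← Scheme.Hom.comp_apply, Over.w η[Red.bc V.ι B]]; rfl,
        (η[Red.bc V.ι A]).left t, by rw [← Scheme.Hom.comp_apply, ← Over.comp_left, IsMonHom.one_hom w]⟩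
    exact hsub rfl
  haveI : IsIso w.left := (isIso_iff_isOpenImmersion_and_epi_base _).2 ⟨inferInstance, by
    rw [TopCat.epi_iff_surjective]; exact w.left.surjective⟩
  haveI : IsIso ((Over.forget _).map w) := ‹IsIso w.left›
  exact isIso_of_reflects_iso w (Over.forget _)

variable {G B : Over S} [GrpObj G] [GrpObj B]

/-- Limits in a closed subgroup. -/
theorem mem_PSub_of_comp (i : B ⟶ G) [IsMonHom i] [IsClosedImmersion i.left] {cB : Red.DS S ℤ ⟶ B}
    {R : Type u} [CommRing R] {f : Spec (CommRingCat.of R) ⟶ S} {y : pt R f ⟶ B}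
    (h : y ≫ i ∈ PSub f (cB ≫ i)) : y ∈ PSub f cB := by
  obtain ⟨g, hg⟩ := (mem_PSub f (cB ≫ i)).1 h
  have horb : orb f (cB ≫ i) (y ≫ i) = orb f cB y ≫ i := by
    rw [orb_apply, orb_apply, MonObj.mul_comp, MonObj.mul_comp, GrpObj.inv_comp]
    simp only [Category.assoc]
  obtain ⟨z, hz⟩ := (exists_fac_iff_ker_le i.left g.left).2 (by
    rw [← ker_qn_comp g, hg, horb, Over.comp_left]
    exact (exists_fac_iff_ker_le i.left _).1 ⟨_, rfl⟩)
  haveI : Mono i := Over.mono_of_mono_left i
  refine (mem_PSub f cB).2 ⟨Over.homMk z (by rw [← Over.w i, ← Category.assoc, hz, Over.w g]), (cancel_mono i).1 ?_⟩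
  rw [← horb, ← hg, Category.assoc]
  exact congrArg (qn f ℤ ≫ ·) (Over.OverMorphism.ext hz)

/-- **Rigidity**: a smooth subgroup with connected fibres containing the cocharacter and equal to its parabolic
subgroup at a point is equal to it near that point. -/
theorem exists_nhd_eq_isP [IsAffineHom G.hom] [Smooth G.hom] (hGconn : ∀ s : S, ConnectedSpace (Red.geomFibre s G).left)
    (i : B ⟶ G) [IsMonHom i] [IsClosedImmersion i.left] [Smooth B.hom]
    (hBconn : ∀ s : S, _root_.IsConnected (B.hom.base ⁻¹' {s})) {cB : Red.DS S ℤ ⟶ B} [IsMonHom cB]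
    {P : Over S} [GrpObj P] {p : P ⟶ G} (hP : IsP (cB ≫ i) p) {K : Type u} [Field K]
    (φ : Spec (CommRingCat.of K) ⟶ S) (e : Red.bc φ B ≅ Red.bc φ P)
    (he : e.hom ≫ (Over.pullback φ).map p = (Over.pullback φ).map i) :
    ∃ V : S.Opens, φ (IsLocalRing.closedPoint K) ∈ V ∧
      ∃ d : Red.bc V.ι B ≅ Red.bc V.ι P, d.hom ≫ (Over.pullback V.ι).map p = (Over.pullback V.ι).map i := by
  haveI := hP.1; haveI := hP.2.1
  haveI : IsAffineHom B.hom := by rw [← Over.w i]; infer_instance
  haveI : IsMonHom (cB ≫ i) := inferInstance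
  haveI : Smooth P.hom := smooth_isP inferInstance _ hP
  obtain ⟨Q, _, q, hQ⟩ := exists_isP (G := B) cB
  haveI := hQ.1; haveI := hQ.2.1
  haveI : Smooth Q.hom := smooth_isP inferInstance _ hQ
  haveI : Mono i := Over.mono_of_mono_left i
  haveI : Mono p := Over.mono_of_mono_left p
  haveI : Mono q := Over.mono_of_mono_left q
  obtain ⟨v, hv⟩ := (hP.2.2 Q (q ≫ i)).2 fun R _ f y => by
    rw [← Category.assoc]
    exact comp_mem_PSub f cB i ((hQ.2.2 Q q).1 ⟨𝟙 Q, Category.id_comp q⟩ R f y)
  haveI : IsMonHom v := MTSplit.isMonHom_of_comp_mono v p _ hv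
  haveI : IsClosedImmersion v.left := by
    haveI : IsClosedImmersion (v.left ≫ p.left) := by
      rw [← Over.comp_left, hv, Over.comp_left]; infer_instance
    exact IsClosedImmersion.of_comp v.left p.left
  have hPconn : ∀ s : S, _root_.IsConnected (P.hom.base ⁻¹' {s}) := by
    obtain ⟨U, _, u, hu⟩ := exists_isU (G := G) (cB ≫ i)
    refine MTImage.isConnected_fibre_of_geom fun s => ?_
    let j := Red.geomPt s
    haveI : IsAffineHom (Red.geomFibre s G).hom := inferInstanceAs (IsAffineHom (pullback.snd G.hom j))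
    haveI : IsAffine (Red.geomFibre s G).left := isAffine_of_isAffineHom (Red.geomFibre s G).hom
    haveI : Smooth (Red.geomFibre s G).hom := inferInstanceAs (Smooth (pullback.snd G.hom j))
    haveI := isMonHom_comp' (ej j ℤ) ((Over.pullback j).map (cB ≫ i))
    exact (field_fibre (k := AlgebraicClosure (S.residueField s)) (bcHom' j (cB ≫ i)) (hP.bc j) (hu.bc j)).1 (hGconn s)
  let F := Over.pullback φ
  have hQK := hQ.bc φ
  have hPK := hP.bc φ
  haveI : IsClosedImmersion (F.map i).left :=
    MorphismProperty.overPullbackMap (P := @IsClosedImmersion) φ i inferInstance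
  haveI : Mono (F.map i) := Over.mono_of_mono_left _
  haveI := hQK.2.1; haveI := hPK.2.1
  haveI : Mono (F.map q) := Over.mono_of_mono_left _
  haveI : Mono (F.map p) := Over.mono_of_mono_left _
  have hc : bcHom' φ (cB ≫ i) = bcHom' φ cB ≫ F.map i := by
    show ej φ ℤ ≫ F.map (cB ≫ i) = (ej φ ℤ ≫ F.map cB) ≫ F.map i
    rw [Functor.map_comp, Category.assoc]
  obtain ⟨r, hr⟩ := (hQK.2.2 (Red.bc φ B) (𝟙 _)).2 fun R _ f y => by
    rw [Category.comp_id]
    refine mem_PSub_of_comp (F.map i) ?_
    rw [← hc]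
    exact (hPK.2.2 _ (F.map i)).1 ⟨e.hom, he⟩ R f y
  haveI : IsIso (F.map q) := by
    haveI : IsSplitEpi (F.map q) := ⟨⟨r, hr⟩⟩
    exact isIso_of_mono_of_isSplitEpi _
  have hvK : F.map v = F.map q ≫ e.hom := by
    rw [← cancel_mono (F.map p), Category.assoc, he, ← F.map_comp, hv, F.map_comp]
  haveI : IsIso (F.map v) := by rw [hvK]; infer_instance
  obtain ⟨V₁, hs₁, h₁⟩ := exists_nhd_isIso q hBconn φ inferInstance
  obtain ⟨V₂, hs₂, h₂⟩ := exists_nhd_isIso v hPconn φ inferInstance
  let V := V₁ ⊓ V₂
  refine ⟨V, ⟨hs₁, hs₂⟩, ?_⟩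
  have hres : ∀ {A A' : Over S} (w : A ⟶ A') (W : S.Opens) (hW : V ≤ W),
      IsIso ((Over.pullback W.ι).map w) → IsIso ((Over.pullback V.ι).map w) := by
    intro A A' w W hW hw
    have key : ∀ ψ, ψ = V.ι → IsIso ((Over.pullback ψ).map w) → IsIso ((Over.pullback V.ι).map w) := by
      rintro _ rfl h; exact h
    refine key _ (S.homOfLE_ι hW) ((NatIso.isIso_map_iff (Over.pullbackComp (S.homOfLE hW) W.ι) w).2 ?_)
    exact inferInstanceAs (IsIso ((Over.pullback (S.homOfLE hW)).map ((Over.pullback W.ι).map w)))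
  haveI := hres q V₁ inf_le_left h₁
  haveI := hres v V₂ inf_le_right h₂
  refine ⟨(asIso ((Over.pullback V.ι).map q)).symm ≪≫ asIso ((Over.pullback V.ι).map v), ?_⟩
  rw [Iso.trans_hom, Iso.symm_hom, asIso_inv, asIso_hom, Category.assoc, ← Functor.map_comp, hv, Functor.map_comp,
    IsIso.inv_hom_id_assoc]

end Groth.Agent.BorelConj
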