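import Groth.Agent.BorelConj.Etale
set_option autoImplicit false
set_option backward.isDefEq.respectTransparency false
set_option backward.isDefEq.respectTransparency.types false
set_option maxHeartbeats 4000000
set_option synthInstance.maxHeartbeats 400000
universe u
open CategoryTheory Limits MonoidalCategory CartesianMonoidalCategory MonObj AlgebraicGeometry LieS
open scoped CategoryTheory.Obj
noncomputable section
namespace Groth.Agent.BorelConj
open Groth.Agent.DynPar Groth.Agent.HomDiag Groth.Agent.MTBridge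
attribute [local instance] Functor.grpObjObj

/-- A factorisation of a homomorphism through a closed subgroup is a homomorphism. -/
theorem isMonHom_of_comp' {U : Scheme.{u}} {A B G : Over U} [GrpObj A] [GrpObj B] [GrpObj G] (k : A ⟶ G) [IsMonHom k]
    (t : A ⟶ B) (j : B ⟶ G) [IsMonHom j] [IsClosedImmersion j.left] (h : t ≫ j = k) : IsMonHom t := by
  haveI : Mono j := Over.mono_of_mono_left j
  exact MTSplit.isMonHom_of_comp_mono t j k h

/-- Transport of a maximal torus contained in a subgroup along isomorphisms. -/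
theorem exists_le_transport {U : Scheme.{u}} {T P P' G G' : Over U} [GrpObj T] [GrpObj P] [GrpObj P'] [GrpObj G]
    [GrpObj G'] (i : T ⟶ G') (hi : Red.IsMaximalTorus i) (t : T ⟶ P') (p' : P' ⟶ G') [IsMonHom p'] [IsClosedImmersion p'.left]
    (h : t ≫ p' = i) (dP : P ≅ P') [IsMonHom dP.hom] (dG : G ≅ G') [IsMonHom dG.hom] (p : P ⟶ G)
    (hsq : p ≫ dG.hom = dP.hom ≫ p') :
    ∃ (T₀ : Over U) (_ : GrpObj T₀) (t₀ : T₀ ⟶ P), IsMonHom t₀ ∧ Red.IsMaximalTorus (t₀ ≫ p) := by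
  haveI := hi.1
  haveI : IsMonHom t := isMonHom_of_comp' i t p' h
  haveI : IsMonHom dG.symm.hom := inferInstanceAs (IsMonHom dG.inv)
  haveI : IsMonHom (Iso.refl T).hom := inferInstanceAs (IsMonHom (𝟙 _))
  refine ⟨T, inferInstance, t ≫ dP.inv, inferInstance, ?_⟩
  have hn : dP.inv ≫ p = p' ≫ dG.inv := by
    rw [Iso.inv_comp_eq, ← reassoc_of% hsq, Iso.hom_inv_id, Category.comp_id]
  rw [Category.assoc, hn, ← Category.assoc, h]
  exact MTImage.isMaximalTorus_iso (Iso.refl _) dG.symm i _ (by simp) hi.2.2.1 hi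

/-- Etale locally a parabolic subgroup contains a maximal torus. -/
theorem exists_maximalTorus_le_parabolic {S : Scheme.{u}} {G P : Over S} [GrpObj G] [GrpObj P]
    (hG : Red.IsReductive G) (p : P ⟶ G) (hP : Red.IsParabolic p) (s : S) :
    ∃ (S' : Scheme.{u}) (f : S' ⟶ S) (_ : Etale f), s ∈ Set.range f ∧
      ∃ (T : Over S') (_ : GrpObj T) (t : T ⟶ Red.bc f P), IsMonHom t ∧
        Red.IsMaximalTorus (t ≫ (Over.pullback f).map p) := by
  haveI := hP.1; haveI := hP.2.1; haveI := hP.2.2.1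
  haveI := hG.1; haveI := hG.2.1
  obtain ⟨A, _, u, hu, ⟨a, rfl⟩, -, C, _, v, hv, hvs, T, _, iT, hiT, r, ⟨E⟩⟩ :=
    Groth.Agent.S3002.result S G (RedCartan.isConnected_fibre_of_isReductive hG) s (hG.2.2 s)
  haveI := hu; haveI := hv
  let f₁ := v ≫ u
  haveI : Etale f₁ := inferInstanceAs (Etale (v ≫ u))
  let φ := Red.geomPt (u a)
  obtain ⟨φ₁, hφ₁⟩ := exists_geom_lift f₁ φ (by
    obtain ⟨c, hc⟩ := hvs.surj a
    exact ⟨c, by rw [MTImage.geomPt_closedPoint, Scheme.Hom.comp_apply, hc]⟩)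
  have hG₁ := isReductive_bc f₁ hG
  haveI : IsClosedImmersion ((Over.pullback f₁).map p).left :=
    MorphismProperty.overPullbackMap (P := @IsClosedImmersion) f₁ p inferInstance
  haveI : Smooth (Red.bc f₁ P).hom := inferInstanceAs (Smooth (pullback.snd P.hom f₁))
  have hiD := RootBase.isMaximalTorus_DS hiT E
  obtain ⟨B₀, _, b, hb⟩ := (hP.2.2.2 (u a)).2.2.2
  obtain ⟨eP, heP, hP'⟩ := Chev.MaxTorusBC.exists_trIso hφ₁ P
  obtain ⟨eG, heG, hG'⟩ := Chev.MaxTorusBC.exists_trIso hφ₁ G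
  haveI : IsMonHom eP.hom := hP'
  haveI : IsMonHom eG.hom := hG'
  have hn : (Over.pullback φ).map p ≫ eG.hom = eP.hom ≫ (Over.pullback φ₁).map ((Over.pullback f₁).map p) := by
    rw [heP, heG, MTImage.trIso_natural]
  haveI : IsMonHom (Iso.refl B₀).hom := inferInstanceAs (IsMonHom (𝟙 _))
  haveI : IsMonHom eG.symm.hom := inferInstanceAs (IsMonHom eG.inv)
  have hb₁ : Red.IsBorelOver _ ((b ≫ eP.hom) ≫ (Over.pullback φ₁).map ((Over.pullback f₁).map p)) := by
    refine isBorelOver_ambient (Iso.refl B₀) eG.symm _ _ ?_ hb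
    show 𝟙 _ ≫ _ = _ ≫ eG.inv
    rw [Category.id_comp, Category.assoc, Category.assoc, ← reassoc_of% hn, Iso.hom_inv_id, Category.comp_id]
  obtain ⟨U₂, f₂, hf₂, i₁, t₁, h₂, hi₁, ht₁⟩ := exists_torus_le_of_conj hG₁ _ hiD ((Over.pullback f₁).map p) φ₁
    fun T' _ iT' _ hT' => by
      have hred := isReductiveOver_pt hG₁ φ₁
      haveI : IsAffine (Red.bc φ₁ (Red.bc f₁ G)).left := hred.1
      haveI : Smooth (Red.bc φ₁ (Red.bc f₁ G)).hom := hred.2.1
      haveI : ConnectedSpace (Red.bc φ₁ (Red.bc f₁ G)).left := hred.2.2.1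
      obtain ⟨g, t, ht⟩ := exists_torus_conj _ hb₁ iT' hT'
      exact ⟨g, t ≫ b ≫ eP.hom, by rw [Category.assoc]; exact ht⟩
  haveI := hf₂
  haveI := hi₁.1
  obtain ⟨dP, hdP, hP₂⟩ := Chev.MaxTorusBC.exists_trIso (rfl : f₂ ≫ f₁ = _) P
  obtain ⟨dG, hdG, hG₂⟩ := Chev.MaxTorusBC.exists_trIso (rfl : f₂ ≫ f₁ = _) G
  haveI : IsMonHom dP.hom := hP₂
  haveI : IsMonHom dG.hom := hG₂
  have hn₂ : (Over.pullback (f₂ ≫ f₁)).map p ≫ dG.hom = dP.hom ≫ (Over.pullback f₂).map ((Over.pullback f₁).map p) := by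
    rw [hdP, hdG, MTImage.trIso_natural]
  haveI : IsClosedImmersion ((Over.pullback f₂).map ((Over.pullback f₁).map p)).left :=
    MorphismProperty.overPullbackMap (P := @IsClosedImmersion) f₂ _ inferInstance
  refine ⟨U₂, f₂ ≫ f₁, inferInstance, ?_, exists_le_transport i₁ hi₁ t₁ _ ht₁ dP dG _ hn₂⟩
  obtain ⟨w, hw⟩ := h₂
  refine ⟨w, ?_⟩
  rw [Scheme.Hom.comp_apply, hw, ← Scheme.Hom.comp_apply, hφ₁]
  exact MTImage.geomPt_closedPoint _

end Groth.Agent.BorelConj
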