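import Groth.Agent.BorelConj.CocharReg
import Groth.Agent.RootBase.Comb
import Groth.Agent.RootClosed.Main

/-!
# Borel subgroups containing the torus of a splitting
-/

set_option autoImplicit false
set_option linter.style.haveILetI false
set_option linter.unusedSectionVars false
set_option backward.isDefEq.respectTransparency false
set_option backward.isDefEq.respectTransparency.types false
set_option maxHeartbeats 2000000
set_option synthInstance.maxHeartbeats 400000

universe u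

open CategoryTheory Limits MonoidalCategory CartesianMonoidalCategory MonObj AlgebraicGeometry LieS
open scoped CategoryTheory.Obj

noncomputable section

namespace Groth.Agent.BorelConj

open Groth.Agent.DynPar Groth.Agent.HomDiag Groth.Agent.MTBridge Groth.Agent.RootBase Groth.Agent.RootSys

variable {S : Scheme.{u}}

/-- Transfer of a factorisation of a morphism over an open to its points. -/
theorem mem_of_map_fac {G B Z : Over S} [GrpObj G] [GrpObj B] (i : B ⟶ G) (u : Z ⟶ G) {V : S.Opens}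
    (v : Red.bc V.ι Z ⟶ Red.bc V.ι B) (hv : v ≫ (Over.pullback V.ι).map i = (Over.pullback V.ι).map u)
    {X : Over (V : Scheme.{u})} (a : (Over.map V.ι).obj X ⟶ Z) : ∃ z, z ≫ i = a ≫ u := by
  refine (mem_bc_iff V.ι i (a ≫ u)).1 ⟨(Over.mapPullbackAdj V.ι).homEquiv X Z a ≫ v, ?_⟩
  rw [Category.assoc, hv]
  exact ((Over.mapPullbackAdj V.ι).homEquiv_naturality_right a u).symm

/-- A point of the additive group with a given value, over a field point. -/
theorem exists_gaPoint {G : Over S} [GrpObj G] (u : Red.Ga S ⟶ G) {K : Type u} [CommRing K]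
    (φ : Spec (CommRingCat.of K) ⟶ S) (x' : pt K (𝟙 (Spec (CommRingCat.of K))) ⟶ Red.Ga (Spec (CommRingCat.of K))) :
    ∃ x : pt K φ ⟶ Red.Ga S, down φ (Category.id_comp φ) (x ≫ u) = x' ≫ bcGa φ u := by
  refine ⟨upId φ (Category.id_comp φ) ≫ (Over.map φ).map x' ≫ gaPush φ, ?_⟩
  rw [down, bcGa_eq]
  simp only [Category.assoc]
  rw [← Category.assoc (upId' φ _), upId'_upId, Category.id_comp]

variable {G B : Over S} [GrpObj G] [GrpObj B]

/-- **A Borel subgroup containing the torus of a splitting is locally standard.** -/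
theorem exists_base_of_borel (D : Red.SplitRed G) (i : B ⟶ G) (hB : Red.IsBorel i) (t : D.T ⟶ B) (ht : t ≫ i = D.i)
    (s : S) :
    ∃ (V : S.Opens), s ∈ V ∧ ∃ b : D.P.Base, ∀ a : D.idx,
      (∃ v : Red.bc V.ι (Red.Ga S) ⟶ Red.bc V.ι B, v ≫ (Over.pullback V.ι).map i = (Over.pullback V.ι).map (D.u a)) ↔
        a ∈ RedSub.posRoots D.P b := by
  letI := D.grpT
  letI := D.acgM
  letI := D.fintypeIdx
  letI := D.finiteM
  letI := D.freeM
  haveI : Nonempty S := ⟨s⟩
  haveI := isReduced_of_splitRed D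
  have F := frame_of_splitRed D
  haveI := F.hG.1; haveI := F.hG.2.1; haveI := F.hc.1
  haveI := hB.1; haveI := hB.2.1; haveI := hB.2.2.1
  let c : Red.DS S D.M ⟶ G := D.split.inv.hom.hom ≫ D.i
  let tB : Red.DS S D.M ⟶ B := D.split.inv.hom.hom ≫ t
  have htB : tB ≫ i = c := by simp [tB, c, ht]
  -- the geometric point
  let φ := Red.geomPt s
  let K := AlgebraicClosure (S.residueField s)
  let Fu := Over.pullback φ
  have FK := F.bc φ
  have hred : Red.IsReductiveOver K (Fu.obj G) := F.hG.2.2 s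
  haveI : IsAffine (Fu.obj G).left := hred.1
  haveI : Smooth (Fu.obj G).hom := hred.2.1
  haveI : IsAffine (Red.bc φ G).left := hred.1
  haveI : IsMonHom (bcHom' φ c) := isMonHom_bcHom' φ c
  have hiK : AGF.IsMaxTorus (bcHom' φ c) := Chev.Borel.isMaxTorus_of_isMaximalTorus _ FK.hc
  obtain ⟨mu, hreg, P₀, _, p₀, e₀, hP₀, he₀⟩ := exists_cochar_regular hred (bcHom' φ c) hiK (Fu.map i) (hB.2.2.2 s)
    (ej φ D.M ≫ Fu.map tB) (by rw [Category.assoc, ← Fu.map_comp, htB]; rfl)
  have hmu : ∀ a, mu (D.P.root a) ≠ 0 := fun a => mu_ne_zero_of_regular (FK.hu a) (F.ne a) mu hreg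
  -- the parabolic subgroup
  let cm : Red.DS S ℤ ⟶ G := Red.DSmap S mu ≫ c
  haveI : IsMonHom cm := isMonHom_comp' (Red.DSmap S mu) c
  obtain ⟨P, _, p, hP⟩ := exists_isP (G := G) cm
  obtain ⟨d, hd⟩ := (show IsP (Red.DSmap _ mu ≫ bcHom' φ c) (Fu.map p) from bcHom'_DSmap φ mu c ▸ hP.bc φ).exists_iso hP₀
  have hKmem : ∀ (X : Over (Spec (CommRingCat.of K))) (a : (Over.map φ).obj X ⟶ G),
      (∃ z, z ≫ i = a) ↔ ∃ z, z ≫ p = a :=
    iff_of_iso φ i p (e₀.symm ≪≫ d.symm) (by
      rw [Iso.trans_hom, Iso.symm_hom, Iso.symm_hom, Category.assoc, ← hd, Iso.inv_hom_id_assoc, ← he₀,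
        Iso.inv_hom_id_assoc])
  obtain ⟨V, hV, hiff⟩ := exists_nhd_mem_iff (fun s => (F.hG.2.2 s).2.2.1) i
    (MTImage.isConnected_fibre_of_geom fun s => (hB.2.2.2 s).2.2.2.1) (c := cm)
    ⟨Red.DSmap S mu ≫ tB, by rw [Category.assoc, htB]⟩ hP φ hKmem
  rw [MTImage.geomPt_closedPoint] at hV
  -- the base
  have hflip : ∀ a, D.P.root (D.P.reflectionPerm a a) = -D.P.root a := fun a => by
    rw [D.P.root_reflectionPerm, D.P.reflection_apply_self]
  obtain ⟨b, hb⟩ := RootClosed.exists_base_superset (P := D.P) (R' := {a | 0 < mu (D.P.root a)})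
    (fun x y z hx hy h => by
      show 0 < mu (D.P.root z)
      rw [h, map_add]
      exact add_pos hx hy)
    (fun x (hx : 0 < mu (D.P.root x)) (h : 0 < mu (D.P.root (D.P.reflectionPerm x x))) => by
      rw [hflip, map_neg] at h
      omega)
  obtain ⟨ν, hν, -, -⟩ := exists_pos_hom D.P b
  have hpos : ∀ a, a ∈ RedSub.posRoots D.P b ↔ 0 < mu (D.P.root a) := fun a => by
    refine ⟨fun ha => ?_, fun ha => hb ha⟩
    by_contra hn
    have h1 : D.P.reflectionPerm a a ∈ RedSub.posRoots D.P b := hb (by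
      show 0 < mu (D.P.root (D.P.reflectionPerm a a))
      rw [hflip, map_neg]
      have := hmu a
      omega)
    have h2 := (hν _).2 h1
    have h3 := (hν _).2 ha
    rw [hflip, map_neg] at h2
    omega
  refine ⟨V, hV, b, fun a => ?_⟩
  rw [hpos a]
  constructor
  · rintro ⟨v, hv⟩
    refine lt_of_le_of_ne ?_ (Ne.symm (hmu a))
    obtain ⟨x, hx⟩ := exists_gaPoint (D.u a) φ (gp _ 1)
    -- the point lies over the open
    have hφV : Set.range φ ⊆ Set.range V.ι := by
      rw [Scheme.Opens.range_ι]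
      rintro _ ⟨q, rfl⟩
      rw [Subsingleton.elim q (IsLocalRing.closedPoint K), MTImage.geomPt_closedPoint]
      exact hV
    let X₁ : Over (V : Scheme.{u}) := Over.mk (IsOpenImmersion.lift V.ι φ hφV)
    let e : (Over.map V.ι).obj X₁ ≅ pt K φ := Over.isoMk (Iso.refl _) (by
      show 𝟙 _ ≫ φ = IsOpenImmersion.lift V.ι φ hφV ≫ V.ι
      rw [Category.id_comp, IsOpenImmersion.lift_fac])
    obtain ⟨z, hz⟩ := (mem_iso_iff e p (x ≫ D.u a)).1 ((hiff X₁ _).1 (by
      rw [← Category.assoc]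
      exact mem_of_map_fac i (D.u a) v hv (e.hom ≫ x)))
    have h1 : x ≫ D.u a ∈ PSub φ cm := by
      have h := (hP.2.2 _ (x ≫ D.u a)).1 ⟨z, hz⟩ K φ (𝟙 _)
      rwa [Category.id_comp] at h
    rw [mem_PSub_down φ (Category.id_comp φ), hx, bcHom'_DSmap] at h1
    refine mu_nonneg_of_mem_PSub (isRootHom_bc φ (F.hu a)) mu (gp _ 1) ?_ h1
    rw [gv_gp]
    exact one_ne_zero
  · intro ha
    obtain ⟨u₀, hu₀⟩ := hP.exists_le (D.u a) fun R _ f y =>
      USub_le_PSub _ _ (rootHom_mem_USub_global (F.hu a) mu ha f y)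
    obtain ⟨ε, hε⟩ := ((Over.mapPullbackAdj V.ι).homEquiv (Red.bc V.ι (Red.Ga S)) (Red.Ga S)).surjective (𝟙 _)
    obtain ⟨v, hv⟩ := (mem_bc_iff V.ι i (ε ≫ D.u a)).2 ((hiff _ _).2 ⟨ε ≫ u₀, by rw [Category.assoc, hu₀]⟩)
    refine ⟨v, hv.trans ?_⟩
    show (Over.mapPullbackAdj V.ι).homEquiv _ G (ε ≫ D.u a) = _
    rw [(Over.mapPullbackAdj V.ι).homEquiv_naturality_right, hε, Category.id_comp]

end Groth.Agent.BorelConj
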