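import Groth.Agent.BorelConj.BSub

/-!
# Base change of subgroups of type (R)
-/

set_option autoImplicit false
set_option linter.style.haveILetI false
set_option linter.unusedSectionVars false
set_option backward.isDefEq.respectTransparency false
set_option backward.isDefEq.respectTransparency.types false
set_option maxHeartbeats 2000000
set_option synthInstance.maxHeartbeats 400000

universe u

open CategoryTheory Limits MonoidalCategory CartesianMonoidalCategory MonObj AlgebraicGeometry LieS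
open scoped CategoryTheory.Obj

noncomputable section

namespace Groth.Agent.BorelConj

open Groth.Agent.DynPar Groth.Agent.HomDiag Groth.Agent.MTBridge

variable {S : Scheme.{u}} {G H : Over S} [GrpObj G] [GrpObj H]

/-- Subgroups of type (R) are carried by isomorphisms. -/
theorem isTypeR_iso {G' : Over S} [GrpObj G'] [IsAffineHom G.hom] [Smooth G.hom] (i : H ⟶ G) (hi : RedSub.IsTypeR i)
    (e : G ≅ G') [IsMonHom e.hom] : RedSub.IsTypeR (i ≫ e.hom) := by
  obtain ⟨⟨him, hii⟩, hs, hq, hc, hT⟩ := hi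
  haveI := him; haveI := hii
  haveI : IsIso e.hom.left := inferInstanceAs (IsIso ((Over.forget S).map e.hom))
  refine ⟨⟨inferInstance, inferInstanceAs (IsImmersion (i.left ≫ e.hom.left))⟩, hs, hq, hc, fun s => ?_⟩
  obtain ⟨T, _, t, ht, hm⟩ := hT s
  refine ⟨T, inferInstance, t, ht, ?_⟩
  haveI : IsMonHom (Iso.refl T).hom := inferInstanceAs (IsMonHom (𝟙 _))
  haveI : IsMonHom ((Over.pullback (Red.geomPt s)).mapIso e).hom := isMonHom_map' _ e.hom
  exact MTImage.isMaximalTorus_iso (Iso.refl T) ((Over.pullback (Red.geomPt s)).mapIso e) _ _ (by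
    simp [Functor.map_comp]) hm.2.2.1 hm

/-- Subgroups of type (R) are stable under base change. -/
theorem isTypeR_bc [IsAffineHom G.hom] [Smooth G.hom] (i : H ⟶ G) (hi : RedSub.IsTypeR i) {U : Scheme.{u}}
    (f : U ⟶ S) : RedSub.IsTypeR ((Over.pullback f).map i) := by
  obtain ⟨⟨him, hii⟩, hs, hq, hc, hT⟩ := hi
  haveI := him; haveI := hii; haveI := hs; haveI := hq
  refine ⟨⟨isMonHom_map' f i, MorphismProperty.overPullbackMap (P := @IsImmersion) f i inferInstance⟩,
    inferInstanceAs (Smooth (pullback.snd H.hom f)), inferInstanceAs (QuasiCompact (pullback.snd H.hom f)),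
    MTImage.isConnected_fibre_bc H hc f, fun s => ?_⟩
  let φ := Red.geomPt s ≫ f
  obtain ⟨τ, hτ⟩ := MTImage.exists_lift_geomPt φ
  obtain ⟨T, _, t, ht, hm⟩ := hT (φ (IsLocalRing.closedPoint _))
  let s₀ := φ (IsLocalRing.closedPoint _)
  haveI : Smooth (Red.geomFibre s₀ G).hom := inferInstanceAs (Smooth (pullback.snd G.hom (Red.geomPt s₀)))
  haveI : IsAffineHom (Red.geomFibre s₀ G).hom := inferInstanceAs (IsAffineHom (pullback.snd G.hom (Red.geomPt s₀)))
  have hm' := Chev.MaxTorusBC.isMaximalTorus_bc _ hm τ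
  obtain ⟨a, ha, ha'⟩ := Chev.MaxTorusBC.exists_trIso hτ G
  obtain ⟨b, hb, hb'⟩ := Chev.MaxTorusBC.exists_trIso (rfl : Red.geomPt s ≫ f = φ) G
  obtain ⟨a₂, ha₂, ha₂'⟩ := Chev.MaxTorusBC.exists_trIso hτ H
  obtain ⟨b₂, hb₂, hb₂'⟩ := Chev.MaxTorusBC.exists_trIso (rfl : Red.geomPt s ≫ f = φ) H
  haveI : IsMonHom a.hom := ha'
  haveI : IsMonHom b.hom := hb'
  haveI : IsMonHom a₂.hom := ha₂'
  haveI : IsMonHom b₂.hom := hb₂'
  haveI : IsMonHom a.inv := inferInstance
  haveI : IsMonHom a₂.inv := inferInstance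
  haveI : IsMonHom (a.symm ≪≫ b).hom := inferInstanceAs (IsMonHom (a.inv ≫ b.hom))
  haveI : IsMonHom (Iso.refl (Red.bc τ T)).hom := inferInstanceAs (IsMonHom (𝟙 _))
  haveI : IsMonHom ((Over.pullback τ).map t) := isMonHom_map' τ t
  have hna : (Over.pullback φ).map i ≫ a.hom = a₂.hom ≫ (Over.pullback τ).map ((Over.pullback (Red.geomPt s₀)).map i) := by
    rw [ha, ha₂, MTImage.trIso_natural]
  have hnb : (Over.pullback φ).map i ≫ b.hom = b₂.hom ≫ (Over.pullback (Red.geomPt s)).map ((Over.pullback f).map i) := by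
    rw [hb, hb₂, MTImage.trIso_natural]
  refine ⟨Red.bc τ T, inferInstance, (Over.pullback τ).map t ≫ a₂.inv ≫ b₂.hom, inferInstance, ?_⟩
  refine MTImage.isMaximalTorus_iso (Iso.refl _) (a.symm ≪≫ b) _ _ ?_ hm'.2.2.1 hm'
  rw [Iso.trans_hom, Iso.symm_hom, Iso.refl_hom, Category.id_comp, Category.assoc, Category.assoc, ← hnb,
    Functor.map_comp, Category.assoc]
  have : (Over.pullback τ).map ((Over.pullback (Red.geomPt s₀)).map i) ≫ a.inv = a₂.inv ≫ (Over.pullback φ).map i := by
    rw [Iso.eq_inv_comp, ← reassoc_of% hna, Iso.hom_inv_id, Category.comp_id]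
  rw [reassoc_of% this]

/-- A pullback of a subgroup of type (R) is a subgroup of type (R). -/
theorem isTypeR_pullMap [IsAffineHom G.hom] [Smooth G.hom] {X P : Over S} {K : Over X.left} [GrpObj K]
    (j : K ⟶ Red.bc X.hom G) (hj : RedSub.IsTypeR j) (x : P ⟶ X) : RedSub.IsTypeR (MTDescent.pullMap j x) := by
  haveI : IsAffineHom (Red.bc X.hom G).hom := MorphismProperty.pullback_snd (P := @IsAffineHom) G.hom X.hom inferInstance
  haveI : Smooth (Red.bc X.hom G).hom := inferInstanceAs (Smooth (pullback.snd G.hom X.hom))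
  haveI : IsAffineHom (Red.bc x.left (Red.bc X.hom G)).hom :=
    MorphismProperty.pullback_snd (P := @IsAffineHom) (Red.bc X.hom G).hom x.left inferInstance
  haveI : Smooth (Red.bc x.left (Red.bc X.hom G)).hom :=
    inferInstanceAs (Smooth (pullback.snd (Red.bc X.hom G).hom x.left))
  obtain ⟨e, he, hem⟩ := TorScheme.exists_pullIso (G := G) x
  haveI := hem
  rw [TorScheme.pullMap_eq x j, ← he]
  exact isTypeR_iso _ (isTypeR_bc j hj x.left) e

end Groth.Agent.BorelConj
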