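import Groth.Agent.BorelConj.Etale
import Groth.Agent.RootBase.TypeREq
import Groth.Agent.S3901
import Groth.Agent.S8420
import Groth.Agent.S3002

/-!
# Étale-local conjugacy of subgroups of type (R)
-/

set_option autoImplicit false
set_option linter.style.haveILetI false
set_option linter.unusedSectionVars false
set_option backward.isDefEq.respectTransparency false
set_option backward.isDefEq.respectTransparency.types false
set_option maxHeartbeats 4000000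
set_option synthInstance.maxHeartbeats 400000

universe u

open CategoryTheory Limits MonoidalCategory CartesianMonoidalCategory MonObj AlgebraicGeometry LieS
open scoped CategoryTheory.Obj
open Groth.Agent.SubGen (ratEquiv)

noncomputable section

namespace Groth.Agent.BorelConj

open Groth.Agent.DynPar Groth.Agent.HomDiag Groth.Agent.MTBridge

attribute [local instance] Functor.grpObjObj

variable {U : Scheme.{u}} {G B : Over U} [GrpObj G] [GrpObj B] {r : ℕ}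

/-- After an étale extension, a subgroup containing, at a point, a maximal torus contains a conjugate of a
given maximal torus. -/
theorem exists_torus_le_of_mono (hG : Red.IsReductive G) (i : Red.DS U (Fin r → ℤ) ⟶ G) (hi : Red.IsMaximalTorus i)
    (iB : B ⟶ G) [IsMonHom iB] [Mono iB] [Smooth B.hom]
    {K : Type u} [Field K] [IsAlgClosed K] (φ : Spec (CommRingCat.of K) ⟶ U)
    {T₀ : Over (Spec (CommRingCat.of K))} [GrpObj T₀] (t₀ : T₀ ⟶ Red.bc φ B)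
    (ht₀ : Red.IsMaximalTorus (t₀ ≫ (Over.pullback φ).map iB)) :
    ∃ (W : Scheme.{u}) (f : W ⟶ U) (_ : Etale f) (i₁ : Red.DS W (Fin r → ℤ) ⟶ Red.bc f G) (t : _ ⟶ Red.bc f B),
      φ (IsLocalRing.closedPoint K) ∈ Set.range f ∧ Red.IsMaximalTorus i₁ ∧ t ≫ (Over.pullback f).map iB = i₁ := by
  haveI := hG.1; haveI := hG.2.1; haveI := hi.1; haveI := hi.2.1
  obtain ⟨M, m, hm, hMs, hMu⟩ := Groth.Agent.S8420.result U G (RedCartan.isConnected_fibre_of_isReductive hG)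
    B iB _ i (isCartan_of_isMaximalTorus hG i hi)
  haveI := hMs
  -- a geometric point of the transporter
  let F := Over.pullback φ
  have hred := isReductiveOver_pt hG φ
  haveI : IsAffine (F.obj G).left := hred.1
  haveI : Smooth (F.obj G).hom := hred.2.1
  haveI : ConnectedSpace (F.obj G).left := hred.2.2.1
  have hiK := RootBase.isMaximalTorus_bcHom' φ hG hi
  haveI := hiK.1
  obtain ⟨g, eT, heT⟩ := Groth.Agent.S3901.result K (Red.bc φ G) _ T₀ (bcHom' φ i) _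
    (Chev.Borel.isMaxTorus_of_isMaximalTorus _ hiK) (Chev.Borel.isMaxTorus_of_isMaximalTorus _ ht₀)
  let t := eT.hom ≫ t₀
  have ht : t ≫ (Over.pullback φ).map iB = AGF.conjBy g (bcHom' φ i) := (Category.assoc _ _ _).trans heT
  obtain ⟨g₀, rfl⟩ := (ratEquiv φ G).surjective g
  obtain ⟨μ₀, hμ₀⟩ : ∃ μ₀ : Over.mk φ ⟶ M, μ₀ ≫ m = g₀ := by
    refine (hMu _ g₀).2 fun X x z => ?_
    let Y : Over (Spec (CommRingCat.of K)) := Over.mk x.left
    let e : (Over.map φ).obj Y ≅ X := Over.isoMk (Iso.refl _) (by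
      show 𝟙 _ ≫ X.hom = x.left ≫ φ
      rw [Category.id_comp]; exact (Over.w x).symm)
    have hx : proj φ Y = e.hom ≫ x := Over.OverMorphism.ext (Category.id_comp _).symm
    haveI := isIso_ej φ (Fin r → ℤ)
    obtain ⟨h, hh⟩ := (mem_iso_iff e iB ((x ≫ g₀) * (z ≫ i) * (x ≫ g₀)⁻¹)).1 ((mem_bc_iff φ iB _).1
      ⟨SubGen.Locus.baseEquiv φ _ Y (e.hom ≫ z) ≫ inv (ej φ (Fin r → ℤ)) ≫ t, by
        rw [Category.assoc, Category.assoc, show t ≫ (Over.pullback φ).map iB = _ from ht, AGF.conjBy]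
        simp only [MonObj.comp_mul, GrpObj.comp_inv, map_mul, map_inv]
        rw [show inv (ej φ (Fin r → ℤ)) ≫ bcHom' φ i = F.map i by simp [bcHom', F], ← equiv_comp,
          ← Category.assoc _ (toUnit _) (ratEquiv φ G g₀), ← Category.assoc _ _ (ratEquiv φ G g₀)]
        rw [toUnit_unique (_ ≫ _ ≫ toUnit _) (toUnit Y), equiv_unit, hx]
        simp only [Category.assoc]⟩)
    exact ⟨h, hh.symm⟩
  -- a section
  obtain ⟨W, f, w, hf, hfw, l, hl⟩ := SmSect.exists_etale_section M.hom (μ₀.left (IsLocalRing.closedPoint K))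
  let x₀ : Over.mk f ⟶ M := Over.homMk l hl
  let g₁ : 𝟙_ (Over W) ⟶ Red.bc f G := ratEquiv f G (x₀ ≫ m)
  haveI : IsMonHom (RootBase.cjIso g₁).hom :=
    HomDiag.isMonHom_of_mul _ fun X x y => by
      show (x * y) ≫ RootBase.cj g₁ (𝟙 _) = x ≫ RootBase.cj g₁ (𝟙 _) * y ≫ RootBase.cj g₁ (𝟙 _)
      simp only [RootBase.comp_cj, Category.comp_id, RootBase.cj_mul]
  haveI : IsMonHom (Iso.refl (Red.DS W (Fin r → ℤ))).hom := inferInstanceAs (IsMonHom (𝟙 _))
  have hif := RootBase.isMaximalTorus_bcHom' f hG hi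
  have hi₁ := MTImage.isMaximalTorus_iso (Iso.refl _) (RootBase.cjIso g₁) (bcHom' f i)
    (bcHom' f i ≫ (RootBase.cjIso g₁).hom) (by simp) hif.2.2.1 hif
  obtain ⟨a, ha⟩ := (SubGen.Locus.baseEquiv f (Red.DS U (Fin r → ℤ)) _).surjective (ej f (Fin r → ℤ))
  obtain ⟨h, hh⟩ := (hMu (Over.mk f) (x₀ ≫ m)).1 ⟨x₀, rfl⟩ _ (proj f (Red.DS W (Fin r → ℤ))) a
  refine ⟨W, f, hf, _, SubGen.Locus.baseEquiv f B _ h, ⟨w, hfw.trans ?_⟩, hi₁, ?_⟩
  · rw [← Scheme.Hom.comp_apply, Over.w μ₀]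
    rfl
  · rw [← equiv_comp, ← hh, map_mul, map_mul, map_inv, ← equiv_unit, equiv_comp, ha]
    show _ = bcHom' f i ≫ RootBase.cj g₁ (𝟙 _)
    rw [RootBase.comp_cj, Category.comp_id]
    rfl

/-- Conjugacy passes to a change of base. -/
theorem conjEq_lift {S S' : Scheme.{u}} (ψ : S' ⟶ S) {G A B : Over S} [GrpObj G] [GrpObj A] [GrpObj B] (a : A ⟶ G)
    (b : B ⟶ G) {X : Over S'} (c : (Over.map ψ).obj X ⟶ G) (h : RedSub.ConjEq a b c) :
    RedSub.ConjEq ((Over.pullback ψ).map a) ((Over.pullback ψ).map b) (SubGen.Locus.baseEquiv ψ G X c) := by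
  intro Y y
  have e : y ≫ SubGen.Locus.baseEquiv ψ G X c = SubGen.Locus.baseEquiv ψ G Y ((Over.map ψ).map y ≫ c) :=
    ((Over.mapPullbackAdj ψ).homEquiv_naturality_left y c).symm
  obtain ⟨h1, h2⟩ := h ((Over.map ψ).obj Y) ((Over.map ψ).map y)
  refine ⟨fun z => ?_, fun z => ?_⟩
  · obtain ⟨z, rfl⟩ := (SubGen.Locus.baseEquiv ψ A Y).surjective z
    obtain ⟨w, hw⟩ := h1 z
    exact ⟨SubGen.Locus.baseEquiv ψ B Y w, by rw [e, ← equiv_comp, ← equiv_comp, ← map_inv, ← map_mul, ← map_mul, hw]⟩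
  · obtain ⟨z, rfl⟩ := (SubGen.Locus.baseEquiv ψ B Y).surjective z
    obtain ⟨w, hw⟩ := h2 z
    exact ⟨SubGen.Locus.baseEquiv ψ A Y w, by rw [e, ← equiv_comp, ← equiv_comp, ← map_inv, ← map_mul, ← map_mul, hw]⟩

theorem equiv_left_fst {S S' : Scheme.{u}} (ψ : S' ⟶ S) {G : Over S} [GrpObj G] {X : Over S'}
    (a : (Over.map ψ).obj X ⟶ G) : (SubGen.Locus.baseEquiv ψ G X a).left ≫ pullback.fst G.hom ψ = a.left := by
  show ((Over.mapPullbackAdj ψ).homEquiv X G a).left ≫ _ = _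
  simp [Over.mapPullbackAdj]

/-- Subgroups of type (R) conjugate at a geometric point are conjugate étale-locally, given a common torus. -/
theorem exists_conj_of_torus {U : Scheme.{u}} {G H H' : Over U} [GrpObj G] [GrpObj H] [GrpObj H']
    (hG : Red.IsReductive G) {h : H ⟶ G} {h' : H' ⟶ G} (hH : RedSub.IsTypeR h) (hH' : RedSub.IsTypeR h')
    {r : ℕ} (i₁ : Red.DS U (Fin r → ℤ) ⟶ G) (hi₁ : Red.IsMaximalTorus i₁) (t₁ : Red.DS U (Fin r → ℤ) ⟶ H)
    (ht₁ : t₁ ≫ h = i₁) {K : Type u} [Field K] [IsAlgClosed K] (φ : Spec (CommRingCat.of K) ⟶ U)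
    (g : Over.mk φ ⟶ G) (hg : RedSub.ConjEq h h' g) :
    ∃ (W : Scheme.{u}) (f : W ⟶ U) (_ : Etale f), φ (IsLocalRing.closedPoint K) ∈ Set.range f ∧
      ∃ c : Over.mk f ⟶ G, RedSub.ConjEq h h' c := by
  haveI := hG.1; haveI := hG.2.1; haveI := hi₁.1
  obtain ⟨⟨him, hii⟩, hs, -⟩ := id hH
  obtain ⟨⟨him', hii'⟩, hs', -⟩ := id hH'
  haveI := him; haveI := hii; haveI := hs; haveI := him'; haveI := hii'; haveI := hs'
  haveI : Mono h' := Over.mono_of_mono_left h'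
  obtain ⟨M, m, hmc, hMs, hMu⟩ := Groth.Agent.S8420.result U G (RedCartan.isConnected_fibre_of_isReductive hG)
    H' h' _ i₁ (isCartan_of_isMaximalTorus hG i₁ hi₁)
  haveI := hMs
  obtain ⟨μ₀, hμ₀⟩ : ∃ μ₀ : Over.mk φ ⟶ M, μ₀ ≫ m = g := by
    refine (hMu _ g).2 fun X x z => ?_
    obtain ⟨w, hw⟩ := (hg X x).1 (z ≫ t₁)
    exact ⟨w, by rw [← hw, Category.assoc, ht₁]⟩
  obtain ⟨j, rfl⟩ : ∃ j, M.hom = j := ⟨_, rfl⟩
  let m' : Over.mk M.hom ⟶ G := Over.homMk m.left (Over.w m)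
  have hm' : ∀ {X : Over U} (x : X ⟶ M) (x' : X ⟶ Over.mk M.hom), x'.left = x.left → x' ≫ m' = x ≫ m :=
    fun x x' e => Over.OverMorphism.ext (by
      show x'.left ≫ m.left = x.left ≫ m.left
      rw [e])
  let F := Over.pullback M.hom
  let nM : 𝟙_ (Over M.left) ⟶ Red.bc M.hom G := ratEquiv M.hom G m'
  haveI : IsMonHom (RootBase.cjIso nM).hom :=
    HomDiag.isMonHom_of_mul _ fun X x y => by
      show (x * y) ≫ RootBase.cj nM (𝟙 _) = x ≫ RootBase.cj nM (𝟙 _) * y ≫ RootBase.cj nM (𝟙 _)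
      simp only [RootBase.comp_cj, Category.comp_id, RootBase.cj_mul]
  have hcj : ∀ {A : Over M.left} (a : (Over.map M.hom).obj A ⟶ G),
      SubGen.Locus.baseEquiv M.hom G A a ≫ (RootBase.cjIso nM).hom = SubGen.Locus.baseEquiv M.hom G A
        ((proj M.hom A ≫ m') * a * (proj M.hom A ≫ m')⁻¹) := fun {A} a => by
    show _ ≫ RootBase.cj nM (𝟙 _) = _
    rw [RootBase.comp_cj, Category.comp_id, RootBase.cj, equiv_unit, ← map_inv, ← map_mul, ← map_mul]
  have hcj' : ∀ {A : Over M.left} (a : (Over.map M.hom).obj A ⟶ G),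
      SubGen.Locus.baseEquiv M.hom G A a ≫ (RootBase.cjIso nM).inv = SubGen.Locus.baseEquiv M.hom G A
        ((proj M.hom A ≫ m')⁻¹ * a * (proj M.hom A ≫ m')) := fun {A} a => by
    show _ ≫ RootBase.cj nM⁻¹ (𝟙 _) = _
    rw [RootBase.comp_cj, Category.comp_id, RootBase.cj, GrpObj.comp_inv, _root_.inv_inv, equiv_unit, ← map_inv,
      ← map_mul, ← map_mul]
  obtain ⟨εH, hεH⟩ := (SubGen.Locus.baseEquiv M.hom H (Red.bc M.hom H)).surjective (𝟙 _)
  obtain ⟨εH', hεH'⟩ := (SubGen.Locus.baseEquiv M.hom H' (Red.bc M.hom H')).surjective (𝟙 _)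
  let θ := (proj M.hom (Red.bc M.hom H) ≫ m') * (εH ≫ h) * (proj M.hom (Red.bc M.hom H) ≫ m')⁻¹
  let θ' := (proj M.hom (Red.bc M.hom H') ≫ m')⁻¹ * (εH' ≫ h') * (proj M.hom (Red.bc M.hom H') ≫ m')
  let H1 : Red.bc M.hom H ⟶ Red.bc M.hom G := F.map h ≫ (RootBase.cjIso nM).hom
  let H2 : Red.bc M.hom H' ⟶ Red.bc M.hom G := F.map h'
  have hθ : H1 = SubGen.Locus.baseEquiv M.hom G _ θ := by
    show F.map h ≫ _ = _
    rw [← hcj, equiv_comp, hεH, Category.id_comp]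
  have hθ' : H2 ≫ (RootBase.cjIso nM).inv = SubGen.Locus.baseEquiv M.hom G _ θ' := by
    show F.map h' ≫ _ = _
    rw [← hcj', equiv_comp, hεH', Category.id_comp]
  have hGM := isReductive_bc M.hom hG
  haveI := hGM.1; haveI := hGM.2.1
  have hH1 : RedSub.IsTypeR H1 := isTypeR_iso _ (isTypeR_bc h hH M.hom) (RootBase.cjIso nM)
  have hH2 : RedSub.IsTypeR H2 := isTypeR_bc h' hH' M.hom
  let iM : Red.bc M.hom (Red.DS U (Fin r → ℤ)) ⟶ Red.bc M.hom G := F.map i₁ ≫ (RootBase.cjIso nM).hom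
  haveI : IsMonHom (Iso.refl (Red.bc M.hom (Red.DS U (Fin r → ℤ)))).hom := inferInstanceAs (IsMonHom (𝟙 _))
  have hiF := Chev.MaxTorusBC.isMaximalTorus_bc i₁ hi₁ M.hom
  have hiM : Red.IsMaximalTorus iM := MTImage.isMaximalTorus_iso (Iso.refl _) (RootBase.cjIso nM) (F.map i₁) iM
    (by simp [iM]) hiF.2.2.1 hiF
  have hT1 : F.map t₁ ≫ H1 = iM := by
    show F.map t₁ ≫ F.map h ≫ _ = F.map i₁ ≫ _
    rw [← Category.assoc, ← Functor.map_comp, ht₁]
  obtain ⟨εT, hεT⟩ := (SubGen.Locus.baseEquiv M.hom (Red.DS U (Fin r → ℤ))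
    (Red.bc M.hom (Red.DS U (Fin r → ℤ)))).surjective (𝟙 _)
  obtain ⟨xT, hxT⟩ : ∃ xT : (Over.map M.hom).obj (Red.bc M.hom (Red.DS U (Fin r → ℤ))) ⟶ M,
      xT.left = (proj M.hom (Red.bc M.hom (Red.DS U (Fin r → ℤ)))).left :=
    ⟨Over.homMk (proj M.hom (Red.bc M.hom (Red.DS U (Fin r → ℤ)))).left (Over.w (proj M.hom _)), rfl⟩
  obtain ⟨w₀, hw₀⟩ := (hMu M m).1 ⟨𝟙 _, Category.id_comp m⟩ _ xT εT
  have hT2 : SubGen.Locus.baseEquiv M.hom H' _ w₀ ≫ H2 = iM := by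
    show _ ≫ F.map h' = F.map i₁ ≫ _
    rw [← hm' xT _ hxT.symm] at hw₀
    rw [← equiv_comp, ← hw₀, ← hcj, equiv_comp, hεT, Category.id_comp]
  -- the point of the transporter
  let p₀ := μ₀.left (IsLocalRing.closedPoint K)
  have lift : ∀ {A : Over U} (p : (Red.bc M.hom A).left), (Red.bc M.hom A).hom p = p₀ →
      ∃ (X : Over U) (x : X ⟶ Over.mk φ) (y : X ⟶ (Over.map M.hom).obj (Red.bc M.hom A)) (q : X.left),
        y.left q = p ∧ ∀ a : Over.mk M.hom ⟶ G, a.left = m.left → y ≫ proj M.hom _ ≫ a = x ≫ g := by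
    intro A p hp
    obtain ⟨q, hq, -⟩ := Scheme.Pullback.exists_preimage_pullback (f := (Red.bc M.hom A).hom) (g := μ₀.left) p
      (IsLocalRing.closedPoint K) hp
    refine ⟨Over.mk (pullback.snd (Red.bc M.hom A).hom μ₀.left ≫ φ), Over.homMk (pullback.snd _ _) rfl,
      Over.homMk (pullback.fst _ _) ?_, q, hq, fun a ha => Over.OverMorphism.ext ?_⟩
    · show pullback.fst _ _ ≫ (Red.bc M.hom A).hom ≫ M.hom = pullback.snd _ _ ≫ φ
      rw [pullback.condition_assoc, Over.w μ₀]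
      rfl
    · show pullback.fst _ _ ≫ (Red.bc M.hom A).hom ≫ a.left = pullback.snd _ _ ≫ g.left
      rw [ha, pullback.condition_assoc, ← Over.comp_left, hμ₀]
  have hle1 : RootBase.FibreLe H1 H2 p₀ := by
    intro p hp
    obtain ⟨X, x, y, q, hq, hy⟩ := lift p hp
    obtain ⟨w, hw⟩ := (hg X x).1 (y ≫ εH)
    rw [RootBase.range_map, Set.mem_preimage, hθ]
    refine ⟨w.left q, Eq.trans ?_ ((congrArg (fun t => t p) (equiv_left_fst M.hom θ)).symm.trans
      (Scheme.Hom.comp_apply _ _ p))⟩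
    show h'.left (w.left q) = θ.left p
    rw [← hq, ← Scheme.Hom.comp_apply, ← Scheme.Hom.comp_apply, ← Over.comp_left, ← Over.comp_left, ← hw]
    simp only [θ, MonObj.comp_mul, GrpObj.comp_inv, Category.assoc, hy m' rfl]
  have hle2 : RootBase.FibreLe H2 H1 p₀ := by
    intro p hp
    obtain ⟨X, x, y, q, hq, hy⟩ := lift p hp
    obtain ⟨w, hw⟩ := (hg X x).2 (y ≫ εH')
    have hmem : (H2 ≫ (RootBase.cjIso nM).inv).left p ∈ Set.range (F.map h).left := by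
      rw [RootBase.range_map, Set.mem_preimage, hθ']
      refine ⟨w.left q, Eq.trans ?_ ((congrArg (fun t => t p) (equiv_left_fst M.hom θ')).symm.trans
        (Scheme.Hom.comp_apply _ _ p))⟩
      show h.left (w.left q) = θ'.left p
      rw [← hq, ← Scheme.Hom.comp_apply, ← Scheme.Hom.comp_apply, ← Over.comp_left, ← Over.comp_left, ← hw]
      simp only [θ', MonObj.comp_mul, GrpObj.comp_inv, Category.assoc, hy m' rfl]
    obtain ⟨q₁, hq₁⟩ := hmem
    refine ⟨q₁, ?_⟩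
    show (F.map h ≫ (RootBase.cjIso nM).hom).left q₁ = H2.left p
    rw [Over.comp_left, Scheme.Hom.comp_apply, hq₁, ← Scheme.Hom.comp_apply, ← Over.comp_left, Category.assoc,
      Iso.inv_hom_id, Category.comp_id]
  obtain ⟨W₁, hW₁, hW₁'⟩ := RootBase.exists_nhd_fibreLe hGM iM hiM H1 H2 hH1 hH2 _ _ hT1 hT2 p₀
  obtain ⟨W₂, hW₂, hW₂'⟩ := RootBase.exists_nhd_fibreLe hGM iM hiM H2 H1 hH2 hH1 _ _ hT2 hT1 p₀
  let W : M.left.Opens := W₁ ⊓ W₂
  have hWr : ∀ o : W.toScheme, W.ι o ∈ (W : Set M.left) := fun o => o.2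
  obtain ⟨e, he⟩ := RootBase.exists_iso_bc hGM iM hiM H1 H2 hH1 hH2 _ _ hT1 hT2 W.ι
    (fun o => (hW₁' _ (hWr o).1).2 hle1) (fun o => (hW₂' _ (hWr o).2).2 hle2)
  -- a section through the neighbourhood
  obtain ⟨W', f, w', hf, hfw, l, hl⟩ := SmSect.exists_etale_section (W.ι ≫ M.hom) ⟨p₀, hW₁, hW₂⟩
  let x₀ : Over.mk f ⟶ M := Over.homMk (l ≫ W.ι) (by
    show (l ≫ W.ι) ≫ M.hom = f
    rw [Category.assoc, hl])
  refine ⟨W', f, hf, ⟨w', hfw.trans ?_⟩, x₀ ≫ m, fun X x => ?_⟩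
  · rw [Scheme.Hom.comp_apply, show W.ι ⟨p₀, hW₁, hW₂⟩ = μ₀.left (IsLocalRing.closedPoint K) from rfl,
      ← Scheme.Hom.comp_apply, Over.w μ₀]
    rfl
  -- the points of the base change over the neighbourhood
  have hover : ∀ {A : Over U} (z : X ⟶ A), ∃ (Y : Over W.toScheme) (q : Y ⟶ Red.bc W.ι (Red.bc M.hom A))
      (y : X ⟶ (Over.map M.hom).obj (Red.bc M.hom A)),
      y.left ≫ pullback.fst A.hom M.hom = z.left ∧ y ≫ proj M.hom _ ≫ m' = x ≫ x₀ ≫ m ∧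
        ∃ v : X.left ⟶ Y.left, v ≫ q.left ≫ pullback.fst _ _ = y.left := by
    intro A z
    have e1 : z.left ≫ A.hom = (x.left ≫ l ≫ W.ι) ≫ M.hom := by
      rw [Over.w z, ← Over.w x]
      simp only [Category.assoc, hl]
      rfl
    let y₀ : X.left ⟶ (Red.bc M.hom A).left := pullback.lift z.left (x.left ≫ l ≫ W.ι) e1
    let y : X ⟶ (Over.map M.hom).obj (Red.bc M.hom A) := Over.homMk y₀ (by
      show y₀ ≫ pullback.snd A.hom M.hom ≫ M.hom = X.hom
      rw [← Category.assoc, pullback.lift_snd, ← e1, Over.w z])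
    refine ⟨Over.mk (x.left ≫ l), Over.homMk (pullback.lift y₀ (x.left ≫ l) ?_) (pullback.lift_snd _ _ _), y,
      pullback.lift_fst _ _ _, Over.OverMorphism.ext ?_, 𝟙 _, ?_⟩
    · show y₀ ≫ pullback.snd A.hom M.hom = (x.left ≫ l) ≫ W.ι
      rw [pullback.lift_snd, Category.assoc]
    · show y₀ ≫ pullback.snd A.hom M.hom ≫ m.left = x.left ≫ (l ≫ W.ι) ≫ m.left
      rw [← Category.assoc, pullback.lift_snd]
      simp only [Category.assoc]
    · show 𝟙 _ ≫ pullback.lift y₀ (x.left ≫ l) _ ≫ pullback.fst _ _ = y₀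
      rw [Category.id_comp, pullback.lift_fst]
  have push : ∀ {A B : Over U} (k : Red.bc W.ι (Red.bc M.hom A) ⟶ Red.bc W.ι (Red.bc M.hom B))
      (b : Red.bc M.hom B ⟶ Red.bc M.hom G) (a : Red.bc M.hom A ⟶ Red.bc M.hom G)
      (_ : k ≫ (Over.pullback W.ι).map b = (Over.pullback W.ι).map a) (z : X ⟶ A),
      ∃ (y : X ⟶ (Over.map M.hom).obj (Red.bc M.hom A)) (z' : X ⟶ (Over.map M.hom).obj (Red.bc M.hom B)),
        y.left ≫ pullback.fst A.hom M.hom = z.left ∧ y ≫ proj M.hom _ ≫ m' = x ≫ x₀ ≫ m ∧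
        z' ≫ proj M.hom _ ≫ m' = x ≫ x₀ ≫ m ∧ y.left ≫ a.left = z'.left ≫ b.left := by
    intro A B k b a hk z
    obtain ⟨Y, q, y, hy1, hy2, v, hv⟩ := hover z
    let z'₀ := v ≫ q.left ≫ k.left ≫ pullback.fst (Red.bc M.hom B).hom W.ι
    have hsnd : k.left ≫ pullback.fst (Red.bc M.hom B).hom W.ι ≫ (Red.bc M.hom B).hom =
        pullback.fst (Red.bc M.hom A).hom W.ι ≫ (Red.bc M.hom A).hom := by
      have hk' : k.left ≫ pullback.snd (Red.bc M.hom B).hom W.ι = pullback.snd (Red.bc M.hom A).hom W.ι := Over.w k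
      exact (congrArg (fun t => k.left ≫ t) pullback.condition).trans ((Category.assoc _ _ _).symm.trans
        ((congrArg (fun t => t ≫ W.ι) hk').trans pullback.condition.symm))
    let z' : X ⟶ (Over.map M.hom).obj (Red.bc M.hom B) := Over.homMk z'₀ (by
      show z'₀ ≫ (Red.bc M.hom B).hom ≫ M.hom = X.hom
      simp only [z'₀, Category.assoc, reassoc_of% hsnd, reassoc_of% hv]
      exact Over.w y)
    refine ⟨y, z', hy1, hy2, Over.OverMorphism.ext ?_, ?_⟩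
    · show z'₀ ≫ (Red.bc M.hom B).hom ≫ m.left = (x ≫ x₀ ≫ m).left
      rw [← hy2]
      simp only [z'₀, Category.assoc, reassoc_of% hsnd, reassoc_of% hv]
      rfl
    · show y.left ≫ a.left = z'₀ ≫ b.left
      have h1 := congrArg (fun t => v ≫ q.left ≫ t.left ≫ pullback.fst (Red.bc M.hom G).hom W.ι) hk
      simp only [Over.comp_left, Category.assoc, Over.pullback_map_left, pullback.lift_fst, reassoc_of% hv] at h1
      simp only [z'₀, Category.assoc]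
      exact h1.symm
  refine ⟨fun z => ?_, fun z => ?_⟩
  · obtain ⟨y, z', hy1, hy2, hz', hsq⟩ := push e.hom H2 H1 he z
    have hyε : y ≫ εH = z := Over.OverMorphism.ext (by
      rw [Over.comp_left, ← equiv_left_fst M.hom εH, hεH, Over.id_left, Category.id_comp, hy1])
    refine ⟨z' ≫ εH', Over.OverMorphism.ext ?_⟩
    have h2 : (y ≫ θ).left = ((z' ≫ εH') ≫ h').left := by
      rw [Over.comp_left, ← equiv_left_fst M.hom θ, ← hθ, ← Category.assoc, hsq, Category.assoc, Over.comp_left,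
        Over.comp_left, ← equiv_left_fst M.hom εH', hεH', Over.id_left, Category.id_comp]
      simp only [H2, F, Over.pullback_map_left, pullback.lift_fst, Category.assoc]
    rw [← h2]
    simp only [θ, MonObj.comp_mul, GrpObj.comp_inv, hy2, reassoc_of% hyε]
  · have he' : e.inv ≫ (Over.pullback W.ι).map H1 = (Over.pullback W.ι).map H2 := by rw [← he, Iso.inv_hom_id_assoc]
    obtain ⟨y, z', hy1, hy2, hz', hsq⟩ := push e.inv H1 H2 he' z
    have hyε : y ≫ εH' = z := Over.OverMorphism.ext (by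
      rw [Over.comp_left, ← equiv_left_fst M.hom εH', hεH', Over.id_left, Category.id_comp, hy1])
    refine ⟨z' ≫ εH, ?_⟩
    have h2 : y ≫ εH' ≫ h' = z' ≫ θ := Over.OverMorphism.ext (by
      simp only [Over.comp_left]
      rw [← equiv_left_fst M.hom θ, ← hθ, ← reassoc_of% hsq, ← equiv_left_fst M.hom εH', hεH', Over.id_left,
        Category.id_comp]
      simp only [H2, F, Over.pullback_map_left, pullback.lift_fst])
    rw [reassoc_of% hyε] at h2
    rw [h2]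
    simp only [θ, MonObj.comp_mul, GrpObj.comp_inv, hz', Category.assoc]
    group

/-- **Subgroups of type (R) conjugate on a geometric fibre are conjugate étale-locally.** -/
theorem exists_conj_typeR {S : Scheme.{u}} {G H H' : Over S} [GrpObj G] [GrpObj H] [GrpObj H']
    (hG : Red.IsReductive G) (h : H ⟶ G) (h' : H' ⟶ G) (hH : RedSub.IsTypeR h) (hH' : RedSub.IsTypeR h') (s : S)
    (g : 𝟙_ _ ⟶ Red.geomFibre s G)
    (hg : RedSub.ConjEq ((Over.pullback (Red.geomPt s)).map h) ((Over.pullback (Red.geomPt s)).map h') g) :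
    ∃ (W : Scheme.{u}) (f : W ⟶ S) (_ : Etale f), s ∈ Set.range f ∧ ∃ c : Over.mk f ⟶ G, RedSub.ConjEq h h' c := by
  haveI := hG.1; haveI := hG.2.1
  -- conjugacy over the base
  obtain ⟨g₀, hg₀⟩ : ∃ g₀ : Over.mk (Red.geomPt s) ⟶ G, RedSub.ConjEq h h' g₀ := by
    obtain ⟨c, rfl⟩ := (SubGen.Locus.baseEquiv (Red.geomPt s) G _).surjective g
    have e := conjEq_up _ h h' c hg
    let a : Over.mk (Red.geomPt s) ⟶ (Over.map (Red.geomPt s)).obj (𝟙_ (Over _)) :=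
      Over.homMk (𝟙 _) (by show 𝟙 _ ≫ 𝟙 _ ≫ Red.geomPt s = Red.geomPt s; simp)
    exact ⟨a ≫ c, fun X x => by
      have := e X (x ≫ a)
      simpa only [Category.assoc] using this⟩
  obtain ⟨A, _, u, hu, ⟨a, ha⟩, -, C, _, v, hv, hvs, T, _, iT, hiT, r, ⟨E⟩⟩ :=
    Groth.Agent.S3002.result S G (RedCartan.isConnected_fibre_of_isReductive hG) s (hG.2.2 s)
  haveI := hu; haveI := hv
  obtain ⟨u₁, hu₁⟩ := hvs.surj a
  let f₁ := v ≫ u
  haveI : Etale f₁ := inferInstanceAs (Etale (v ≫ u))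
  have hf₁ : f₁ u₁ = s := by rw [Scheme.Hom.comp_apply, hu₁, ha]
  have hG₁ := isReductive_bc f₁ hG
  have hiD := RootBase.isMaximalTorus_DS hiT E
  have hH₁ := isTypeR_bc h hH f₁
  obtain ⟨⟨k1, k2⟩, k3, -, -, k4⟩ := id hH₁
  haveI := k1; haveI := k2; haveI := k3
  haveI : Mono ((Over.pullback f₁).map h) := Over.mono_of_mono_left _
  obtain ⟨T₀, _, t₀, -, ht₀⟩ := k4 u₁
  obtain ⟨U₂, f₂, hf₂, i₁, t₁, h₂, hi₁, ht₁⟩ :=
    exists_torus_le_of_mono hG₁ _ hiD ((Over.pullback f₁).map h) (Red.geomPt u₁) t₀ ht₀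
  haveI := hf₂
  haveI := hG₁.1; haveI := hG₁.2.1
  rw [MTImage.geomPt_closedPoint] at h₂
  obtain ⟨u₂, hu₂⟩ := h₂
  let K := AlgebraicClosure (U₂.residueField u₂)
  let φ : Spec (CommRingCat.of K) ⟶ U₂ := Red.geomPt u₂
  obtain ⟨ρ, hρ⟩ := MTImage.exists_lift_geomPt ((φ ≫ f₂) ≫ f₁)
  have hs : ((φ ≫ f₂) ≫ f₁) (IsLocalRing.closedPoint K) = s := by
    refine (Scheme.Hom.comp_apply _ f₁ _).trans ((congrArg f₁ ?_).trans hf₁)
    exact (Scheme.Hom.comp_apply φ f₂ _).trans ((congrArg f₂ (MTImage.geomPt_closedPoint _)).trans hu₂)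
  -- the conjugating point upstairs
  obtain ⟨g₂, hg₂⟩ : ∃ g₂ : Over.mk φ ⟶ Red.bc f₂ (Red.bc f₁ G),
      RedSub.ConjEq ((Over.pullback f₂).map ((Over.pullback f₁).map h))
        ((Over.pullback f₂).map ((Over.pullback f₁).map h')) g₂ := by
    have key : ∀ t, t = s → ∃ g' : Over.mk (Red.geomPt t) ⟶ G, RedSub.ConjEq h h' g' :=
      fun t ht => by subst ht; exact ⟨g₀, hg₀⟩
    obtain ⟨g', hg'⟩ := key _ hs
    let ρ' : (Over.map f₁).obj ((Over.map f₂).obj (Over.mk φ)) ⟶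
        Over.mk (Red.geomPt (((φ ≫ f₂) ≫ f₁) (IsLocalRing.closedPoint K))) := Over.homMk ρ (by
      show ρ ≫ Red.geomPt _ = (φ ≫ f₂) ≫ f₁
      exact hρ)
    have e1 : RedSub.ConjEq h h' (ρ' ≫ g') := fun X x => by
      have := hg' X (x ≫ ρ')
      simpa only [Category.assoc] using this
    exact ⟨_, conjEq_lift f₂ _ _ _ (conjEq_lift f₁ h h' _ e1)⟩
  obtain ⟨W, f₃, hf₃, h₃, c₃, hc₃⟩ := exists_conj_of_torus (isReductive_bc f₂ hG₁)
    (isTypeR_bc _ hH₁ f₂) (isTypeR_bc _ (isTypeR_bc h' hH' f₁) f₂) i₁ hi₁ t₁ ht₁ φ g₂ hg₂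
  haveI := hf₃
  rw [MTImage.geomPt_closedPoint] at h₃
  obtain ⟨w, hw⟩ := h₃
  obtain ⟨c₂, rfl⟩ := (SubGen.Locus.baseEquiv f₂ (Red.bc f₁ G) _).surjective c₃
  have e₂ := conjEq_up f₂ _ _ c₂ hc₃
  obtain ⟨c₁, rfl⟩ := (SubGen.Locus.baseEquiv f₁ G _).surjective c₂
  have e₁ := conjEq_up f₁ h h' c₁ e₂
  refine ⟨W, (f₃ ≫ f₂) ≫ f₁, inferInstance, ⟨w, ?_⟩, c₁, e₁⟩
  exact (Scheme.Hom.comp_apply _ f₁ _).trans ((congrArg f₁ ((Scheme.Hom.comp_apply f₃ f₂ _).trans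
    ((congrArg f₂ hw).trans hu₂))).trans hf₁)

end Groth.Agent.BorelConj
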